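import Groth.Agent.RedCell22.CommLaw
import Groth.Agent.RedCell22.Morph

/-!
# Root groups whose sum is not a root commute
-/

set_option autoImplicit false
set_option linter.unusedSectionVars false
set_option linter.style.haveILetI false

universe u

open CategoryTheory CategoryTheory.Limits AlgebraicGeometry MonoidalCategory CartesianMonoidalCategory
open scoped MonObj

noncomputable section

namespace Groth.Agent.Red23Lib

open Groth.Agent.RedCell22 Groth.Agent.RootData

section Datum

variable {idx M N : Type} [Fintype idx] [AddCommGroup M] [AddCommGroup N] [Module.Free ℤ M]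
  {P : RootPairing idx ℤ M N}

theorem pairing_comb {r a c g : idx} {i j : ℤ} (h : P.root r = i • P.root a + j • P.root c) :
    P.pairing r g = i * P.pairing a g + j * P.pairing c g := by
  rw [← P.root_coroot_eq_pairing r g, h]
  simp [P.root_coroot_eq_pairing]

/-- If the sum of two independent roots is not a root, no positive combination of them is one. -/
theorem not_root_comb {a c : idx} (hind : Indep P a c) (hac : P.root a + P.root c ∉ Set.range P.root) :
    ∀ (r : idx) (i j : ℕ), 0 < i → 0 < j → P.root r ≠ (i : ℤ) • P.root a + (j : ℤ) • P.root c := by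
  have hne : P.root a ≠ -P.root c := fun e => by
    have := (hind 1 1 (by rw [one_smul, one_smul, e, neg_add_cancel])).1
    omega
  have hn : 0 ≤ P.pairing a c := not_lt.1 fun h => hac (add_root_mem h hne)
  have hn' : 0 ≤ P.pairing c a := not_lt.1 fun h => hac (by
    rw [add_comm]
    exact add_root_mem h fun e => hne (by rw [e, neg_neg]))
  suffices H : ∀ n : ℕ, ∀ (r : idx) (i j : ℕ), i + j = n → 0 < i → 0 < j →
      P.root r ≠ (i : ℤ) • P.root a + (j : ℤ) • P.root c from fun r i j => H _ r i j rfl
  intro n
  induction n using Nat.strong_induction_on with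
  | _ n ih =>
    intro r i j hn0 hi hj hr
    by_cases hi1 : 2 ≤ i
    · have hp : 0 < P.pairing r a := by
        rw [pairing_comb hr, P.pairing_same]
        positivity
      have hra : r ≠ a := by
        rintro rfl
        obtain ⟨-, h⟩ := hind.eq (i := (1 : ℤ)) (j := 0) (i' := i) (j' := j) (by rw [← hr]; simp)
        omega
      obtain ⟨s, hs⟩ := sub_root_mem hp hra
      refine ih (n - 1) (by omega) s (i - 1) j (by omega) (by omega) hj ?_
      rw [hs, hr, Nat.cast_sub (by omega : 1 ≤ i), sub_smul, Nat.cast_one, one_smul]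
      abel
    by_cases hj1 : 2 ≤ j
    · have hp : 0 < P.pairing r c := by
        rw [pairing_comb hr, P.pairing_same]
        positivity
      have hrc : r ≠ c := by
        rintro rfl
        obtain ⟨h, -⟩ := hind.eq (i := (0 : ℤ)) (j := 1) (i' := i) (j' := j) (by rw [← hr]; simp)
        omega
      obtain ⟨s, hs⟩ := sub_root_mem hp hrc
      refine ih (n - 1) (by omega) s i (j - 1) (by omega) hi (by omega) ?_
      rw [hs, hr, Nat.cast_sub (by omega : 1 ≤ j), sub_smul, Nat.cast_one, one_smul]
      abel
    obtain rfl : i = 1 := by omega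
    obtain rfl : j = 1 := by omega
    exact hac ⟨r, by simpa using hr⟩

/-- Two distinct roots with sum neither zero nor a root lie in an open half space and have no positive combination. -/
theorem exists_form_no_comb {a c : idx} (hne : c ≠ a) (h0 : P.root a + P.root c ≠ 0)
    (hac : P.root a + P.root c ∉ Set.range P.root) :
    (∃ f : M →+ ℤ, 0 < f (P.root a) ∧ 0 < f (P.root c)) ∧
      ∀ (r : idx) (i j : ℕ), 0 < i → 0 < j → P.root r ≠ (i : ℤ) • P.root a + (j : ℤ) • P.root c := by
  haveI : IsAddTorsionFree M := .of_isTorsionFree ℤ M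
  by_cases hind : Indep P a c
  · refine ⟨?_, not_root_comb hind hac⟩
    obtain ⟨f, hf⟩ := exists_form_pos ![P.root a, P.root c] fun k hk => by
      rw [Fin.sum_univ_two] at hk
      have h := hind (k 0) (k 1) (by simpa [natCast_zsmul] using hk)
      funext i
      fin_cases i
      · exact_mod_cast h.1
      · exact_mod_cast h.2
    exact ⟨f, hf 0, hf 1⟩
  simp only [Indep, not_forall] at hind
  obtain ⟨i, j, e, hij⟩ := hind
  have hj : j ≠ 0 := fun hj => by
    subst hj
    rw [zero_smul, add_zero] at e
    exact hij ⟨(smul_eq_zero.mp e).resolve_right (P.ne_zero a), rfl⟩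
  -- the roots are `a₀` and twice `a₀`
  have key : ∃ (a₀ : idx) (m m' : ℕ), P.root a = (m : ℤ) • P.root a₀ ∧ P.root c = (m' : ℤ) • P.root a₀ ∧
      0 < m ∧ 0 < m' ∧ 3 ≤ m + m' := by
    rcases proportional_cases (P := P) (i := a) (j := c) (m := -i) hj
        (by rw [neg_smul]; exact neg_eq_of_add_eq_zero_right e) with E | E | E | E | E | E
    · exact absurd (P.root.injective E) hne
    · exact absurd (by rw [E, add_neg_cancel]) h0
    · exact ⟨a, 1, 2, by simp, E, one_pos, two_pos, le_rfl⟩
    · refine absurd ⟨P.reflectionPerm a a, ?_⟩ hac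
      rw [root_neg, E]
      simp only [neg_smul, two_smul]
      abel
    · exact ⟨c, 2, 1, E, by simp, two_pos, one_pos, le_rfl⟩
    · refine absurd ⟨P.reflectionPerm c c, ?_⟩ hac
      rw [root_neg, E]
      simp only [neg_smul, two_smul]
      abel
  obtain ⟨a₀, m, m', ha, hc, hm, hm', h3⟩ := key
  refine ⟨?_, fun r i j hi hj hr => ?_⟩
  · obtain ⟨f, hf⟩ := exists_form_pos ![P.root a₀] fun k hk => by
      rw [Fin.sum_univ_one] at hk
      funext i
      fin_cases i
      exact (smul_eq_zero.mp hk).resolve_right (P.ne_zero a₀)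
    have hpos : 0 < f (P.root a₀) := hf 0
    exact ⟨f, by rw [ha, map_zsmul, smul_eq_mul]; positivity, by rw [hc, map_zsmul, smul_eq_mul]; positivity⟩
  · have hk : P.root r = ((i * m + j * m' : ℕ) : ℤ) • P.root a₀ := by
      rw [hr, ha, hc, smul_smul, smul_smul, ← add_smul]
      push_cast
      rfl
    have h2 : 2 = ((i * m + j * m' : ℕ) : ℤ) * P.pairing a₀ r := by
      rw [← P.pairing_same r, ← P.root_coroot_eq_pairing r r, hk]
      simp [P.root_coroot_eq_pairing]
    have hge : 3 ≤ i * m + j * m' :=
      h3.trans (add_le_add (Nat.le_mul_of_pos_left m hi) (Nat.le_mul_of_pos_left m' hj))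
    have hle := Int.le_of_dvd two_pos (Dvd.intro _ h2.symm)
    omega

end Datum

variable {S : Scheme.{u}} {G : Over S} [GrpObj G] [IsAffineHom G.hom] {D : Red.SplitRed G}

/-- On ring-valued points the two root groups commute. -/
theorem commute_ua {a c : D.idx} (hne : c ≠ a) (h0 : D.P.root a + D.P.root c ≠ 0)
    (hac : D.P.root a + D.P.root c ∉ Set.range D.P.root) {A : Type u} [CommRing A]
    (b : Spec (CommRingCat.of A) ⟶ S) (x y : A) :
    Commute (ua D a x : tb b A ⟶ G) (ua D c y) := by
  obtain ⟨⟨f, hfa, hfc⟩, hno⟩ := exists_form_no_comb hne h0 hac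
  obtain ⟨n, l, hl⟩ := exists_posList D f
  let ω : Fin 2 → D.M := ![D.P.root a, D.P.root c]
  let ga : tb b (MvPolynomial (Fin 2) A) ⟶ G := ua D a (MvPolynomial.X 0)
  let gc : tb b (MvPolynomial (Fin 2) A) ⟶ G := ua D c (MvPolynomial.X 1)
  have hga : Equivariant D ω ga := by
    show Equivariant D ω (ua D a _)
    rw [← word_one]
    exact equivariant_word_X _ (fun _ => 0) fun _ => rfl
  have hgc : Equivariant D ω gc := by
    show Equivariant D ω (ua D c _)
    rw [← word_one]
    exact equivariant_word_X _ (fun _ => 1) fun _ => rfl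
  have hla : (lam D f).HasLimOne ga := hasLimOne_ua D hfa _
  have hlc : (lam D f).HasLimOne gc := hasLimOne_ua D hfc _
  obtain ⟨z, hz⟩ := exists_word (b := b) hl (((hla.mul _ hlc).mul _ (hla.inv _)).mul _ (hlc.inv _))
  have heq : Equivariant D ω (word D l z) := hz.symm ▸ ((hga.mul hgc).mul hga.inv).mul hgc.inv
  have hpure : ∀ k d, MvPolynomial.coeff d (z k) ≠ 0 → d 0 = 0 ∨ d 1 = 0 := fun k d hd => by
    by_contra hcon
    push Not at hcon
    refine hno (l k) (d 0) (d 1) (Nat.pos_of_ne_zero hcon.1) (Nat.pos_of_ne_zero hcon.2) ?_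
    rw [← weight_coord hl heq k d hd, Finsupp.weight_apply, Finsupp.sum_fintype]
    · simp [ω, Fin.sum_univ_two, natCast_zsmul]
    · exact fun v => zero_smul ℕ _
  have heval : ∀ (B : Type u) [CommRing B] [Algebra A B] (p q : B),
      (word D l (fun k => MvPolynomial.aeval ![p, q] (z k)) : tb b B ⟶ G) =
        ua D a p * ua D c q * (ua D a p)⁻¹ * (ua D c q)⁻¹ := fun B _ _ p q => by
    rw [← word_map, hz, tm_mul, tm_mul, tm_mul, tm_inv, tm_inv, ua_map, ua_map, MvPolynomial.aeval_X,
      MvPolynomial.aeval_X]
    rfl
  -- setting one variable to zero leaves nothing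
  have hz0 : ∀ k, z k = 0 := fun k => by
    classical
    ext d
    rw [MvPolynomial.coeff_zero]
    by_contra hd
    have hkill : ∀ v : Fin 2, d v = 0 → MvPolynomial.coeff d (z k) = 0 := by
      intro v hv
      let s : Fin 2 → MvPolynomial (Fin 2) A := fun w => if w = v then 0 else MvPolynomial.X w
      have hs : MvPolynomial.aeval s (z k) = 0 := by
        have h1 := heval (MvPolynomial (Fin 2) A) (s 0) (s 1)
        have hs' : ![s 0, s 1] = s := funext fun w => by fin_cases w <;> rfl
        rw [hs'] at h1
        have h2 : (word D l (fun k => MvPolynomial.aeval s (z k)) : tb b _ ⟶ G) = word D l fun _ => 0 := by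
          rw [word_zero, h1]
          fin_cases v <;> simp [s, ua_zero]
        exact congrFun (word_injective hl h2) k
      have hco : ∀ P : MvPolynomial (Fin 2) A, MvPolynomial.coeff d (MvPolynomial.aeval s P) = MvPolynomial.coeff d P := by
        intro P
        induction P using MvPolynomial.induction_on' with
        | add p q hp hq => rw [map_add, MvPolynomial.coeff_add, MvPolynomial.coeff_add, hp, hq]
        | monomial e x =>
          rw [MvPolynomial.aeval_monomial, MvPolynomial.algebraMap_eq]
          by_cases he : e v = 0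
          · rw [MvPolynomial.monomial_eq]
            refine congrArg (fun q => MvPolynomial.coeff d (MvPolynomial.C x * q)) (Finsupp.prod_congr fun w hw => ?_)
            have hwv : w ≠ v := fun h => Finsupp.mem_support_iff.mp hw (h ▸ he)
            simp [s, hwv]
          · rw [MvPolynomial.coeff_monomial, if_neg (fun h : e = d => he (by rw [h]; exact hv)),
              show (e.prod fun w m => s w ^ m) = 0 from
                Finset.prod_eq_zero (Finsupp.mem_support_iff.mpr he) (by simp [s, he])]
            simp
      rw [← hco, hs, MvPolynomial.coeff_zero]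
    rcases hpure k d hd with h | h
    · exact hd (hkill 0 h)
    · exact hd (hkill 1 h)
  have h := heval A x y
  simp only [hz0, map_zero, word_zero] at h
  show _ * _ = _ * _
  calc _ = ua D a x * ua D c y * (ua D a x)⁻¹ * (ua D c y)⁻¹ * (ua D c y * ua D a x) := by group
    _ = _ := by rw [← h, _root_.one_mul]

end Groth.Agent.Red23Lib

end
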