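import Groth.Agent.Red23Lib.Comm2.Linear
import Groth.Agent.Red23Lib.Comm2.Commute

/-!
# Tools for the commutation formulas
-/

set_option autoImplicit false
set_option linter.unusedSectionVars false
set_option linter.style.haveILetI false

universe u

open CategoryTheory CategoryTheory.Limits AlgebraicGeometry MonoidalCategory CartesianMonoidalCategory
open scoped MonObj

noncomputable section

namespace Groth.Agent.Red23Lib

open Groth.Agent.RedCell22

variable {S : Scheme.{u}} {G : Over S} [GrpObj G] {D : Red.SplitRed G}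

theorem Signs.sq (W : Signs D) (a c : D.idx) (R : Type u) [CommRing R] :
    (W.sg a c : R) * (W.sg a c : R) = 1 := by
  rcases W.sign a c with h | h <;> simp [h]

theorem sign_mul {x y : ℤ} (hx : x = 1 ∨ x = -1) (hy : y = 1 ∨ y = -1) : x * y = 1 ∨ x * y = -1 := by
  rcases hx with rfl | rfl <;> rcases hy with rfl | rfl <;> simp

theorem sign_neg {x : ℤ} (hx : x = 1 ∨ x = -1) : -x = 1 ∨ -x = -1 := by
  rcases hx with rfl | rfl <;> simp

theorem IsString.seq {idx M N : Type} [Fintype idx] [AddCommGroup M] [AddCommGroup N] [Module.Free ℤ M]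
    {P : RootPairing idx ℤ M N} {a r₀ : idx} {q : ℕ} (h : IsString P a r₀ q) :
    ∃ r : ℕ → idx, (∀ i ≤ q, P.root (r i) = (i : ℤ) • P.root a + P.root r₀) ∧ r 0 = r₀ ∧
      ∀ (i : ℕ) (x : idx), i ≤ q → P.root x = (i : ℤ) • P.root a + P.root r₀ → r i = x := by
  have : ∀ i, ∃ r, i ≤ q → P.root r = (i : ℤ) • P.root a + P.root r₀ := fun i => by
    by_cases hi : i ≤ q
    · obtain ⟨r, hr⟩ := h.mem i hi
      exact ⟨r, fun _ => hr⟩
    · exact ⟨a, fun h' => absurd h' hi⟩
  choose r hr using this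
  exact ⟨r, hr, P.root.injective (by simpa using hr 0 (Nat.zero_le q)),
    fun i x hi hx => P.root.injective ((hr i hi).trans hx.symm)⟩

/-- An explicit enumeration of a cone. -/
theorem enumerates_cone {a c : D.idx} (hind : Indep D.P a c) {R : ℤ → ℤ → Prop} {p : ℕ} (d : Fin p → D.idx)
    (I J : Fin p → ℤ) (hd : ∀ k, D.P.root (d k) = I k • D.P.root a + J k • D.P.root c)
    (hR : ∀ k, R (I k) (J k)) (hinj : ∀ k l, I k = I l → J k = J l → k = l)
    (hcov : ∀ (r : D.idx) (i j : ℤ), R i j → D.P.root r = i • D.P.root a + j • D.P.root c →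
      ∃ k, I k = i ∧ J k = j) : RedSub.Enumerates (cone D a c R) d := by
  refine ⟨fun k l e => ?_, Set.ext fun r => ⟨?_, fun ⟨i, j, hij, hr⟩ => ?_⟩⟩
  · have := hind.eq ((hd k).symm.trans ((congrArg D.P.root e).trans (hd l)))
    exact hinj k l this.1 this.2
  · rintro ⟨k, rfl⟩
    exact ⟨I k, J k, hR k, hd k⟩
  · obtain ⟨k, rfl, rfl⟩ := hcov r i j hij hr
    exact ⟨k, D.P.root.injective ((hd k).trans hr.symm)⟩

variable [IsAffineHom G.hom] {A : Type u} [CommRing A] {b : Spec (CommRingCat.of A) ⟶ S}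
  {B : Type u} [CommRing B] [Algebra A B]

theorem word_two (d : Fin 2 → D.idx) (x : Fin 2 → B) :
    (word D d x : tb b B ⟶ G) = ua D (d 0) (x 0) * ua D (d 1) (x 1) := by
  simp [word, List.ofFn_succ]

theorem word_three (d : Fin 3 → D.idx) (x : Fin 3 → B) :
    (word D d x : tb b B ⟶ G) = ua D (d 0) (x 0) * ua D (d 1) (x 1) * ua D (d 2) (x 2) := by
  simp [word, List.ofFn_succ, _root_.mul_assoc]

theorem word_four (d : Fin 4 → D.idx) (x : Fin 4 → B) :
    (word D d x : tb b B ⟶ G) =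
      ua D (d 0) (x 0) * ua D (d 1) (x 1) * ua D (d 2) (x 2) * ua D (d 3) (x 3) := by
  simp [word, List.ofFn_succ, _root_.mul_assoc]

end Groth.Agent.Red23Lib

end

namespace Groth.Agent.Red23Lib

open CategoryTheory Groth.Agent.RedCell22

variable {S : Scheme.{u}} {G : Over S} [GrpObj G] {D : Red.SplitRed G}

/-- A splitting with other root homomorphisms. -/
def withRootHoms (D : Red.SplitRed G) (v : D.idx → (Red.Ga S ⟶ G))
    (hv : ∀ c, Red.IsRootHom D.i (D.split.hom.hom.hom ≫ Red.chi S (D.P.root c)) (v c)) : Red.SplitRed G :=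
  { D with u := v, rootHom := hv }

section Test

variable {A : Type u} [CommRing A] {b : Spec (CommRingCat.of A) ⟶ S} {X : Over S}

/-- Functions on a scheme, evaluated at a test. -/
noncomputable def testVal (φ : tb b A ⟶ X) : Γ(X.left, ⊤) →+* A := (gs (b := b) (B := A)).toRingHom.comp φ.left.appTop.hom

theorem testVal_gaFn (φ : tb b A ⟶ X) (x : X ⟶ Red.Ga S) :
    testVal φ (Red.gaFn x) = gs (Red.gaFn (φ ≫ x)) := by
  rw [GrpSchLib.GaPts.gaFn_comp]; rfl

theorem comp_comp_u (φ : tb b A ⟶ X) (x : X ⟶ Red.Ga S) (c : D.idx) :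
    φ ≫ x ≫ D.u c = ua D c (testVal φ (Red.gaFn x)) := by
  rw [testVal_gaFn, ua, gaPt_gaFn, Category.assoc]

end Test

end Groth.Agent.Red23Lib
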