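import Groth.Agent.Red23Lib.Comm2.Basic

/-!
# The commutation formula when the string stops after one step
-/

set_option autoImplicit false
set_option linter.unusedSectionVars false
set_option linter.style.haveILetI false

universe u

open CategoryTheory CategoryTheory.Limits AlgebraicGeometry MonoidalCategory CartesianMonoidalCategory
open scoped MonObj

noncomputable section

namespace Groth.Agent.Red23Lib

open Groth.Agent.RedCell22

variable {S : Scheme.{u}} {G : Over S} [GrpObj G] [IsAffineHom G.hom] {D : Red.SplitRed G}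

theorem comm_q_one (W : Signs D) {a b c : D.idx} (hind : Indep D.P a b)
    (hlen : |D.P.pairing a b| ≤ |D.P.pairing b a|) (hc : D.P.root c = D.P.root a + D.P.root b)
    (hq : D.P.root b + (2 : ℤ) • D.P.root a ∉ Set.range D.P.root) (p : ℕ) (hp1 : 1 ≤ p)
    (hpk : ∀ k : ℕ, k < p → D.P.root b - (k : ℤ) • D.P.root a ∈ Set.range D.P.root)
    (hp : D.P.root b - (p : ℤ) • D.P.root a ∉ Set.range D.P.root) :
    ∃ ε : ℤ, (ε = 1 ∨ ε = -1) ∧ ∀ (A : Type u) [CommRing A] (β : Spec (CommRingCat.of A) ⟶ S) (x y : A),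
      (ua D b y * ua D a x * (ua D b y)⁻¹ * (ua D a x)⁻¹ : tb β A ⟶ G) =
        ua D c ((ε : A) * (p : A) * x * y) := by
  obtain ⟨m, rfl⟩ := Nat.exists_eq_add_of_le' hp1
  obtain ⟨r₀, hr₀⟩ := hpk m (by omega)
  have hb : D.P.root b = (m : ℤ) • D.P.root a + D.P.root r₀ := by rw [hr₀]; abel
  have hc' : D.P.root c = ((m + 1 : ℕ) : ℤ) • D.P.root a + D.P.root r₀ := by rw [hc, hb]; push_cast; module
  have hind₀ : Indep D.P a r₀ := hind.of_root (i := 1) (j := 0) (i' := -(m : ℤ)) (j' := 1) (by simp)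
    (by rw [hr₀]; module) (by norm_num)
  have hsub : D.P.root r₀ - D.P.root a ∉ Set.range D.P.root := fun ⟨r, hr⟩ =>
    hp ⟨r, by rw [hr, hr₀]; push_cast; module⟩
  have hle : D.P.pairing r₀ a ≤ 0 := not_lt.1 fun hpos => hsub (sub_root_mem hpos fun e => by
    have := (hind₀ 1 (-1) (by rw [e]; simp)).1
    omega)
  obtain ⟨q, hq'⟩ : ∃ q : ℕ, D.P.pairing r₀ a = -(q : ℤ) := ⟨(-D.P.pairing r₀ a).toNat, by omega⟩
  have h : IsString D.P a r₀ q := ⟨hind₀, hsub, hq'⟩
  obtain rfl : q = m + 1 := by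
    refine le_antisymm (not_lt.1 fun hlt => ?_) (by exact_mod_cast h.top hc')
    obtain ⟨r, hr⟩ := h.mem (m + 2) hlt
    exact hq ⟨r, by rw [hr, hb]; push_cast; module⟩
  have hq3 := h.le_three
  have hpa : D.P.pairing a r₀ = -1 := by
    obtain ⟨h1, h2, h3⟩ := h.pairing_bot_top (Nat.succ_pos m)
    rcases Nat.eq_zero_or_pos m with rfl | hm
    · obtain rfl : b = r₀ := D.P.root.injective (by rw [hb]; simp)
      rw [hq', abs_of_neg h1] at hlen
      simp at hlen
      omega
    · push_cast at h3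
      have : (1 : ℤ) ≤ m := by exact_mod_cast hm
      nlinarith
  obtain ⟨r, hr, hr0, hru⟩ := h.seq
  have hrb : r m = b := hru m b (Nat.le_succ m) hb
  have hrc : r (m + 1) = c := hru (m + 1) c le_rfl hc'
  have hd : RedSub.Enumerates (commSet D a b) ![c] := by
    refine enumerates_cone hind ![c] (fun _ => 1) (fun _ => 1) (fun k => ?_) (fun _ => ⟨one_pos, one_pos⟩)
      (fun k l _ _ => Subsingleton.elim k l) fun x i j hij hx => ⟨0, ?_⟩
    · fin_cases k
      simp [hc]
    · have hx' : D.P.root x = (i + j * m) • D.P.root a + j • D.P.root r₀ := by rw [hx, hb]; module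
      rcases h.classify hpa hij.2 hx' with ⟨rfl, -, h3⟩ | ⟨h1, rfl, h3, -⟩ | ⟨h1, rfl, h3⟩
      · have := hij.1
        push_cast at h3
        omega
      all_goals
        have := hij.1
        omega
  let e : ℤ := if m = 0 then W.sg r₀ a else
    if m = 1 then W.sg a r₀ * W.sg r₀ a else W.sg a r₀ * W.sg r₀ a * W.sg a (r 2)
  refine ⟨e, ?_, fun A _ β x y => ?_⟩
  · simp only [e]
    split_ifs
    exacts [W.sign _ _, sign_mul (W.sign _ _) (W.sign _ _), sign_mul (sign_mul (W.sign _ _) (W.sign _ _)) (W.sign _ _)]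
  obtain ⟨co, hco, htop, h2, h3⟩ := exists_coef W h r hr β
  have h01 := hco.zero_one W h (Nat.succ_pos m) hpa hr
  obtain ⟨C, hC, hCxy⟩ := exists_comm_coords hind hd (fun _ => 1) (fun _ => 1)
    (fun k => by fin_cases k; simp [hc]) β
  have hC0 := hco m (m + 1) (Nat.lt_succ_self m) le_rfl 1 ![c] C 0 (hrb.symm ▸ hd) (hrb.symm ▸ hC) (by simp [hrc])
  have key : -C 0 = (e : A) * ((m + 1 : ℕ) : A) := by
    have s₀ := W.sq a r₀ A
    have s₁ := W.sq r₀ a A
    have s₂ := W.sq a (r 2) A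
    have t := htop (Nat.succ_pos m)
    rw [hr0] at t
    have hm2 : m ≤ 2 := by omega
    rw [hC0]
    simp only [e]
    interval_cases m
    · simp [h01]
    · have t2 := h2 le_rfl
      simp only [Nat.reduceAdd] at t t2 ⊢
      simp
      linear_combination (-(W.sg r₀ a : A)) * t2 + 2 * (W.sg r₀ a : A) * t -
        (W.sg r₀ a : A) * co 1 2 * h01 + co 1 2 * s₁
    · obtain ⟨-, t3, t4⟩ := h3 rfl
      simp only [Nat.reduceAdd] at t t3 t4 ⊢
      simp
      linear_combination (-1 : A) * t4 + (W.sg a (r 2) : A) * (-(W.sg r₀ a : A) * t3 +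
        3 * (W.sg r₀ a : A) * t - (W.sg r₀ a : A) * co 1 3 * h01 + co 1 3 * s₁)
  have := hCxy A x y
  simp only [word, List.ofFn_succ, List.ofFn_zero, List.prod_singleton, pow_one, Algebra.algebraMap_self,
    RingHom.id_apply, Matrix.cons_val_zero] at this
  rw [show (ua D b y * ua D a x * (ua D b y)⁻¹ * (ua D a x)⁻¹ : tb β A ⟶ G) =
    (ua D a x * ua D b y * (ua D a x)⁻¹ * (ua D b y)⁻¹)⁻¹ by group, this, ← ua_neg]
  congr 1
  linear_combination x * y * key

end Groth.Agent.Red23Lib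

end
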