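import Groth.Agent.Red23Lib.Comm2.Basic

/-!
# The commutation formula for a string of length two through its bottom
-/

set_option autoImplicit false
set_option linter.unusedSectionVars false
set_option linter.style.haveILetI false

universe u

open CategoryTheory CategoryTheory.Limits AlgebraicGeometry MonoidalCategory CartesianMonoidalCategory
open scoped MonObj

noncomputable section

namespace Groth.Agent.Red23Lib

open Groth.Agent.RedCell22

variable {S : Scheme.{u}} {G : Over S} [GrpObj G] [IsAffineHom G.hom] {D : Red.SplitRed G}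

/-- There is no coordinate at twice the sum of the two roots. -/
theorem coord_double_eq_zero (W : Signs D) {a b c₁ c₂ x₂ : D.idx} (h : IsString D.P a b 2)
    (hpa : D.P.pairing a b = -1) (hc₁ : D.P.root c₁ = D.P.root a + D.P.root b)
    (hc₂ : D.P.root c₂ = (2 : ℤ) • D.P.root a + D.P.root b)
    (hx₂ : D.P.root x₂ = (2 : ℤ) • D.P.root a + (2 : ℤ) • D.P.root b)
    {A : Type u} [CommRing A] {β : Spec (CommRingCat.of A) ⟶ S} {σ τ C : A}
    (hC : (ua D b 1 * ua D a 1 * (ua D b 1)⁻¹ * (ua D a 1)⁻¹ : tb β A ⟶ G) =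
      ua D c₁ σ * ua D c₂ τ * ua D x₂ C) : C = 0 := by
  classical
  have hind := h.ind
  -- roots which do not exist
  have hno : ∀ (r : D.idx) (k j : ℤ), D.P.root r = k • D.P.root a + j • D.P.root b → 0 < j →
      (j = 1 ∧ 0 ≤ k ∧ k ≤ 2) ∨ (j = 2 ∧ k = 2) := fun r k j hr hj => by
    rcases h.classify hpa hj hr with h' | ⟨-, h1, h2, -⟩ | ⟨h1, -, -⟩
    exacts [Or.inl ⟨h'.1, h'.2.1, by exact_mod_cast h'.2.2⟩, Or.inr ⟨h1, h2⟩, absurd h1 (by norm_num)]
  have hcm : ∀ (r s : D.idx) (k j k' j' : ℤ), D.P.root r = k • D.P.root a + j • D.P.root b →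
      D.P.root s = k' • D.P.root a + j' • D.P.root b → ¬ (k = k' ∧ j = j') → 0 < j + j' →
      ¬ ((j + j' = 1 ∧ 0 ≤ k + k' ∧ k + k' ≤ 2) ∨ (j + j' = 2 ∧ k + k' = 2)) →
      ∀ (u v : A), Commute (ua D r u : tb β A ⟶ G) (ua D s v) := fun r s k j k' j' hr hs hne hj hno' u v => by
    have hsum : D.P.root r + D.P.root s = (k + k') • D.P.root a + (j + j') • D.P.root b := by
      rw [hr, hs]; module
    refine commute_ua (fun e => ?_) (fun e => ?_) (fun ⟨t, ht⟩ => hno' (hno t _ _ (ht.trans hsum) hj)) β u v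
    · subst e; exact hne (hind.eq (hr.symm.trans hs))
    · have := hind (k + k') (j + j') (hsum.symm.trans e)
      omega
  have ha : D.P.root a = (1 : ℤ) • D.P.root a + (0 : ℤ) • D.P.root b := by simp
  have hb : D.P.root b = (0 : ℤ) • D.P.root a + (1 : ℤ) • D.P.root b := by simp
  have h1 : D.P.root c₁ = (1 : ℤ) • D.P.root a + (1 : ℤ) • D.P.root b := by rw [hc₁]; simp
  have h2 : D.P.root c₂ = (2 : ℤ) • D.P.root a + (1 : ℤ) • D.P.root b := by rw [hc₂]; simp
  -- the equation of the Weyl element of `b`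
  set nb := D.P.reflectionPerm b b with hnb'
  have hnb : D.P.root nb = (0 : ℤ) • D.P.root a + (-1 : ℤ) • D.P.root b := by
    rw [hnb', D.P.root_reflectionPerm, D.P.reflection_apply_self]; simp
  have hsa : D.P.reflectionPerm b a = c₁ := D.P.root.injective (by
    rw [D.P.root_reflectionPerm, D.P.reflection_apply_root, hpa, hc₁, neg_one_smul, sub_neg_eq_add])
  let F : tb β A ⟶ G := ua D nb (W.sg b b : A)
  let η₁ : A := W.sg b a
  have hW : F * (ua D b 1 * ua D a 1 * (ua D b 1)⁻¹) * F⁻¹ = ua D c₁ η₁ := by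
    have e := W.conj β b a (1 : A)
    rw [hsa, _root_.mul_one] at e
    have hcomm := hcm b c₁ 0 1 1 1 hb h1 (by omega) (by norm_num) (by norm_num) 1 η₁
    calc F * (ua D b 1 * ua D a 1 * (ua D b 1)⁻¹) * F⁻¹
        = (ua D b 1)⁻¹ * (wEl D W.sg b * ua D a 1 * (wEl D W.sg b)⁻¹) * ua D b 1 := by
          simp only [wEl, F, hnb']; group
      _ = (ua D b 1)⁻¹ * (ua D b 1 * ua D c₁ η₁) := by rw [e, _root_.mul_assoc, hcomm.eq]
      _ = ua D c₁ η₁ := by group
  have hindn : Indep D.P nb c₁ := hind.of_root hnb h1 (by norm_num)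
  obtain ⟨p₁, d₁, hd₁⟩ := exists_enumerates (commSet D nb c₁)
  obtain ⟨C₁, I₁, J₁, -, hC₁⟩ := exists_comm hindn hd₁ β
  have hind1 : Indep D.P c₁ a := hind.of_root h1 ha (by norm_num)
  obtain ⟨p₂, d₂, hd₂⟩ := exists_enumerates (commSet D c₁ a)
  obtain ⟨C₂, I₂, J₂, -, hC₂⟩ := exists_comm hind1 hd₂ β
  let R₁ : ℤ → ℤ → Prop := fun i j => 0 ≤ j ∧ j < i
  let R₀ : ℤ → ℤ → Prop := fun i j => 0 ≤ j ∧ j ≤ i ∧ 0 < i
  have hΨ₁ : IsClosedSet D.P (cone D a b R₁) :=
    isClosedSet_cone hind (fun i j i' j' e e' => by simp only [R₁] at *; omega) fun i j e e' => by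
      simp only [R₁] at *; omega
  have hΨ₀ : IsClosedSet D.P (cone D a b R₀) :=
    isClosedSet_cone hind (fun i j i' j' e e' => by simp only [R₀] at *; omega) fun i j e e' => by
      simp only [R₀] at *; omega
  obtain ⟨p, e, he⟩ := exists_enumerates (cone D a b R₁)
  have hd₁mem : ∀ i, d₁ i ∈ cone D a b R₁ := fun i => by
    obtain ⟨k, j, ⟨hk, hj⟩, hr⟩ := (Set.ext_iff.mp hd₁.2 _).mp ⟨i, rfl⟩
    exact ⟨j, j - k, ⟨by
      by_contra hlt
      -- the opposite root would lie above the string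
      have hneg : D.P.root (D.P.reflectionPerm (d₁ i) (d₁ i)) = (-j) • D.P.root a + (k - j) • D.P.root b := by
        rw [D.P.root_reflectionPerm, D.P.reflection_apply_self, hr, hnb, h1]; module
      rcases hno _ _ _ hneg (by omega) with e' | e' <;> omega, by omega⟩, by rw [hr, hnb, h1]; module⟩
  have hd₂mem : ∀ i, d₂ i ∈ cone D a b R₁ := fun i => by
    obtain ⟨k, j, ⟨hk, hj⟩, hr⟩ := (Set.ext_iff.mp hd₂.2 _).mp ⟨i, rfl⟩
    exact ⟨k + j, k, ⟨hk.le, by omega⟩, by rw [hr, h1]; module⟩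
  have he' : RedSub.Enumerates (cone D a b R₀) (Fin.append e ![c₁, x₂]) := by
    have hout : ∀ (l : Fin 2) m, e m ≠ ![c₁, x₂] l := fun l m heq => by
      obtain ⟨i, j, hij, hr⟩ := (Set.ext_iff.mp he.2 _).mp ⟨m, rfl⟩
      simp only [R₁] at hij
      rw [heq] at hr
      fin_cases l
      · have := hind.eq (hr.symm.trans h1); omega
      · have := hind.eq (hr.symm.trans hx₂); omega
    refine ⟨Fin.append_injective_iff.mpr ⟨he.1, ?_, fun m l => hout l m⟩, Set.ext fun x => ⟨?_, ?_⟩⟩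
    · intro k l hkl
      have hne : c₁ ≠ x₂ := fun e' => by
        subst e'
        have := hind.eq (h1.symm.trans hx₂); omega
      fin_cases k <;> fin_cases l <;> first | rfl | exact absurd hkl hne | exact absurd hkl.symm hne
    · rintro ⟨m, rfl⟩
      induction m using Fin.addCases with
      | left m =>
        obtain ⟨i, j, hij, hr⟩ := (Set.ext_iff.mp he.2 _).mp ⟨m, rfl⟩
        simp only [R₁] at hij
        rw [Fin.append_left]
        exact ⟨i, j, ⟨hij.1, by omega, by omega⟩, hr⟩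
      | right l =>
        rw [Fin.append_right]
        fin_cases l
        · exact ⟨1, 1, by simp [R₀], h1⟩
        · exact ⟨2, 2, by simp [R₀], hx₂⟩
    · rintro ⟨i, j, hij, hr⟩
      simp only [R₀] at hij
      by_cases hlt : j < i
      · obtain ⟨m, hm⟩ : x ∈ Set.range e := he.2.symm ▸ ⟨i, j, ⟨hij.1, hlt⟩, hr⟩
        exact ⟨Fin.castAdd 2 m, by rw [Fin.append_left, hm]⟩
      · obtain rfl : j = i := by omega
        rcases hno x j j hr hij.2.2 with ⟨rfl, -, -⟩ | ⟨rfl, -⟩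
        · exact ⟨Fin.natAdd p 0, by rw [Fin.append_right]; exact D.P.root.injective (h1.trans hr.symm)⟩
        · exact ⟨Fin.natAdd p 1, by rw [Fin.append_right]; exact D.P.root.injective (hx₂.trans hr.symm)⟩
  -- first expression
  let l₁ := Fin.append ![c₂] (Fin.append d₂ ![a])
  let z₁ : Fin (1 + (p₂ + 1)) → A := Fin.append ![τ] (Fin.append (fun i => C₂ i * σ ^ I₂ i) ![1])
  have hl₁ : ∀ i, l₁ i ∈ cone D a b R₁ := fun i => by
    induction i using Fin.addCases with
    | left i =>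
      simp only [l₁, Fin.append_left]
      fin_cases i
      exact ⟨2, 1, by simp [R₁], h2⟩
    | right i =>
      simp only [l₁, Fin.append_right]
      induction i using Fin.addCases with
      | left i => rw [Fin.append_left]; exact hd₂mem i
      | right i =>
        rw [Fin.append_right]
        fin_cases i
        exact ⟨1, 0, by simp [R₁], ha⟩
  obtain ⟨Z₁, hZ₁⟩ := (exists_word_of_word (b := β) hΨ₁ he l₁ hl₁ z₁).1
  obtain ⟨Z₂, hZ₂⟩ := (exists_word_of_word (b := β) hΨ₁ he d₁ hd₁mem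
    fun i => C₁ i * (-(W.sg b b : A)) ^ I₁ i * η₁ ^ J₁ i).1
  have g₁ : (ua D b 1 * ua D a 1 * (ua D b 1)⁻¹ : tb β A ⟶ G) =
      word D (Fin.append e ![c₁, x₂]) (Fin.append Z₁ ![σ, C]) := by
    have k₂ := (hC₂ A σ (1 : A))
    simp only [one_pow, _root_.mul_one, Algebra.algebraMap_self, RingHom.id_apply] at k₂
    rw [word_append, word_two, hZ₁]
    simp only [l₁, z₁, word_append, k₂]
    have w1 : ∀ (r : D.idx) (u : A), (word D ![r] ![u] : tb β A ⟶ G) = ua D r u := fun r u => by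
      simp [word, List.ofFn_succ]
    rw [w1, w1]
    have ca := hcm x₂ a 2 2 1 0 hx₂ ha (by omega) (by norm_num) (by norm_num) C 1
    have c12 := hcm c₁ c₂ 1 1 2 1 h1 h2 (by omega) (by norm_num) (by norm_num) σ τ
    simp only [Matrix.cons_val_zero, Matrix.cons_val_one]
    calc (ua D b 1 * ua D a 1 * (ua D b 1)⁻¹ : tb β A ⟶ G)
        = (ua D b 1 * ua D a 1 * (ua D b 1)⁻¹ * (ua D a 1)⁻¹) * ua D a 1 := by group
      _ = ua D c₁ σ * ua D c₂ τ * (ua D x₂ C * ua D a 1) := by rw [hC]; group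
      _ = ua D c₁ σ * ua D c₂ τ * (ua D a 1 * ua D x₂ C) := by rw [ca.eq]
      _ = ua D c₂ τ * ua D c₁ σ * (ua D a 1 * ua D x₂ C) := by rw [c12.eq]
      _ = _ := by group
  have g₂ : (ua D b 1 * ua D a 1 * (ua D b 1)⁻¹ : tb β A ⟶ G) =
      word D (Fin.append e ![c₁, x₂]) (Fin.append Z₂ ![η₁, 0]) := by
    have k₁ := hC₁ A (-(W.sg b b : A)) η₁
    simp only [Algebra.algebraMap_self, RingHom.id_apply] at k₁
    rw [word_append, word_two, hZ₂, k₁, ua_neg, inv_inv]
    simp only [Matrix.cons_val_zero, Matrix.cons_val_one, ua_zero, _root_.mul_one]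
    calc (ua D b 1 * ua D a 1 * (ua D b 1)⁻¹ : tb β A ⟶ G)
        = F⁻¹ * (F * (ua D b 1 * ua D a 1 * (ua D b 1)⁻¹) * F⁻¹) * F := by group
      _ = F⁻¹ * ua D c₁ η₁ * F := by rw [hW]
      _ = _ := by simp only [F]; group
  have := congrFun (word_injective_of_closed hΨ₀ he' (g₁.symm.trans g₂)) (Fin.natAdd p 1)
  simpa using this

set_option maxHeartbeats 2000000 in
theorem comm_one_two (W : Signs D) {a b c₁ c₂ : D.idx} (hind : Indep D.P a b)
    (hm : D.P.root b - D.P.root a ∉ Set.range D.P.root) (hc₁ : D.P.root c₁ = D.P.root a + D.P.root b)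
    (hc₂ : D.P.root c₂ = (2 : ℤ) • D.P.root a + D.P.root b)
    (hq : D.P.root b + (3 : ℤ) • D.P.root a ∉ Set.range D.P.root) :
    ∃ ε₁ ε₂ : ℤ, (ε₁ = 1 ∨ ε₁ = -1) ∧ (ε₂ = 1 ∨ ε₂ = -1) ∧
      ∀ (A : Type u) [CommRing A] (β : Spec (CommRingCat.of A) ⟶ S) (x y : A),
        (ua D b y * ua D a x * (ua D b y)⁻¹ * (ua D a x)⁻¹ : tb β A ⟶ G) =
          ua D c₁ ((ε₁ : A) * x * y) * ua D c₂ ((ε₂ : A) * x ^ 2 * y) := by
  classical
  have hle : D.P.pairing b a ≤ 0 := not_lt.1 fun hpos => hm (sub_root_mem hpos fun e => by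
    have := (hind 1 (-1) (by rw [e]; simp)).1
    omega)
  obtain ⟨q, hq'⟩ : ∃ q : ℕ, D.P.pairing b a = -(q : ℤ) := ⟨(-D.P.pairing b a).toNat, by omega⟩
  have h : IsString D.P a b q := ⟨hind, hm, hq'⟩
  obtain rfl : q = 2 := by
    refine le_antisymm (not_lt.1 fun hlt => ?_) (by exact_mod_cast h.top (i := 2) hc₂)
    obtain ⟨r, hr⟩ := h.mem 3 hlt
    exact hq ⟨r, by rw [hr]; push_cast; module⟩
  have hpa : D.P.pairing a b = -1 := by
    obtain ⟨h1, h2, h3⟩ := h.pairing_bot_top two_pos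
    omega
  have h1 : D.P.root c₁ = (1 : ℤ) • D.P.root a + (1 : ℤ) • D.P.root b := by rw [hc₁]; simp
  have h2 : D.P.root c₂ = (2 : ℤ) • D.P.root a + (1 : ℤ) • D.P.root b := by rw [hc₂]; simp
  obtain ⟨r, hr, hr0, hru⟩ := h.seq
  obtain ⟨r', hr', hr0', hru'⟩ := (h.flip hpa).seq
  have hr1' : r' 1 = c₁ := hru' 1 c₁ le_rfl (by rw [hc₁]; simp [add_comm])
  have hr2 : r 2 = c₂ := hru 2 c₂ le_rfl (by rw [hc₂]; simp)
  refine ⟨W.sg b a, -W.sg a b, W.sign _ _, sign_neg (W.sign _ _), fun A _ β x y => ?_⟩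
  obtain ⟨co, hco, htop, -, -⟩ := exists_coef W h r hr β
  obtain ⟨co', hco', htop', -, -⟩ := exists_coef W (h.flip hpa) r' hr' β
  have hlev : ∀ (s : D.idx) (i j : ℤ), posPair i j → D.P.root s = i • D.P.root b + j • D.P.root a →
      s = c₁ ∨ s = c₂ ∨ D.P.root s = (2 : ℤ) • D.P.root a + (2 : ℤ) • D.P.root b := by
    intro s i j hij hs
    rw [add_comm] at hs
    rcases h.classify hpa hij.1 hs with ⟨rfl, -, hk⟩ | ⟨-, rfl, rfl, -⟩ | ⟨h', -, -⟩
    · rcases (show j = 1 ∨ j = 2 by have := hij.2; push_cast at hk; omega) with rfl | rfl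
      · exact Or.inl (D.P.root.injective (hs.trans h1.symm))
      · exact Or.inr (Or.inl (D.P.root.injective (hs.trans h2.symm)))
    · exact Or.inr (Or.inr hs)
    · exact absurd h' (by norm_num)
  -- coordinates of the first level
  have hcoef : ∀ (p : ℕ) (d : Fin p → D.idx) (C : Fin p → A) (k₁ k₂ : Fin p),
      RedSub.Enumerates (commSet D b a) d →
      (word D d C : tb β A ⟶ G) = ua D b 1 * ua D a 1 * (ua D b 1)⁻¹ * (ua D a 1)⁻¹ →
      d k₁ = c₁ → d k₂ = c₂ → C k₁ = W.sg b a ∧ C k₂ = -(W.sg a b : A) := by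
    intro p d C k₁ k₂ hd hC hk₁ hk₂
    refine ⟨?_, ?_⟩
    · rw [hco' 0 1 one_pos le_rfl p d C k₁ (by rw [hr0']; exact hd) (by rw [hr0']; exact hC) (by rw [hk₁, hr1']),
        htop' one_pos, hr0']
    · obtain ⟨p', d', hd'⟩ := exists_enumerates (commSet D a b)
      obtain ⟨C', I', J', -, hC'⟩ := exists_comm hind hd' β
      have hC1 : (word D d' C' : tb β A ⟶ G) = ua D a 1 * ua D b 1 * (ua D a 1)⁻¹ * (ua D b 1)⁻¹ := by
        simpa using hC' A 1 1
      obtain ⟨k, hk⟩ : c₂ ∈ Set.range d' := hd'.2.symm ▸ ⟨2, 1, ⟨two_pos, one_pos⟩, h2⟩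
      rw [comm_coord_swap hind hd' hd hC1 hC (k := k) (i := 2) (hk₂.trans hk.symm) (by rw [hk, hc₂]),
        hco 0 2 two_pos le_rfl p' d' C' k (by rw [hr0]; exact hd') (by rw [hr0]; exact hC1) (by rw [hk, hr2]),
        htop two_pos, hr0]
  by_cases hx : ∃ s, D.P.root s = (2 : ℤ) • D.P.root a + (2 : ℤ) • D.P.root b
  · obtain ⟨x₂, hx₂⟩ := hx
    have hd : RedSub.Enumerates (commSet D b a) ![c₁, c₂, x₂] := by
      refine enumerates_cone hind.symm ![c₁, c₂, x₂] ![1, 1, 2] ![1, 2, 2] (fun k => ?_) (fun k => ?_)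
        (fun k l e e' => ?_) fun s i j hij hs => ?_
      · fin_cases k <;> simp [hc₁, hc₂, hx₂, add_comm]
      · fin_cases k <;> simp [posPair]
      · fin_cases k <;> fin_cases l <;> simp_all
      · rcases hlev s i j hij hs with rfl | rfl | hs'
        · exact ⟨0, hind.symm.eq ((show D.P.root s = (1 : ℤ) • D.P.root b + (1 : ℤ) • D.P.root a by
            rw [hc₁]; simp [add_comm]).symm.trans hs)⟩
        · exact ⟨1, hind.symm.eq ((show D.P.root s = (1 : ℤ) • D.P.root b + (2 : ℤ) • D.P.root a by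
            rw [hc₂]; simp [add_comm]).symm.trans hs)⟩
        · exact ⟨2, hind.symm.eq ((hs'.trans (add_comm _ _)).symm.trans hs)⟩
    obtain ⟨C, hC, hCxy⟩ := exists_comm_coords hind.symm hd ![1, 1, 2] ![1, 2, 2]
      (fun k => by fin_cases k <;> simp [hc₁, hc₂, hx₂, add_comm]) β
    obtain ⟨e0, e1⟩ := hcoef 3 _ C 0 1 hd hC rfl rfl
    have e2 : C 2 = 0 := coord_double_eq_zero W h hpa hc₁ hc₂ hx₂ (σ := C 0) (τ := C 1) (by
      rw [← hC, word_three]; simp)
    rw [hCxy A y x, word_three]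
    simp [e0, e1, e2, ua_zero, mul_comm, mul_left_comm]
  · have hd : RedSub.Enumerates (commSet D b a) ![c₁, c₂] := by
      refine enumerates_cone hind.symm ![c₁, c₂] ![1, 1] ![1, 2] (fun k => ?_) (fun k => ?_)
        (fun k l e e' => ?_) fun s i j hij hs => ?_
      · fin_cases k <;> simp [hc₁, hc₂, add_comm]
      · fin_cases k <;> simp [posPair]
      · fin_cases k <;> fin_cases l <;> simp_all
      · rcases hlev s i j hij hs with rfl | rfl | hs'
        · exact ⟨0, hind.symm.eq ((show D.P.root s = (1 : ℤ) • D.P.root b + (1 : ℤ) • D.P.root a by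
            rw [hc₁]; simp [add_comm]).symm.trans hs)⟩
        · exact ⟨1, hind.symm.eq ((show D.P.root s = (1 : ℤ) • D.P.root b + (2 : ℤ) • D.P.root a by
            rw [hc₂]; simp [add_comm]).symm.trans hs)⟩
        · exact absurd ⟨s, hs'⟩ hx
    obtain ⟨C, hC, hCxy⟩ := exists_comm_coords hind.symm hd ![1, 1] ![1, 2]
      (fun k => by fin_cases k <;> simp [hc₁, hc₂, add_comm]) β
    obtain ⟨e0, e1⟩ := hcoef 2 _ C 0 1 hd hC rfl rfl
    rw [hCxy A y x, word_two]
    simp [e0, e1, mul_comm, mul_left_comm]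

end Groth.Agent.Red23Lib

end
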