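import Groth.Agent.Red23Lib.Comm2.Basic
import Groth.Agent.S8458

/-!
# The commutation formula for a string of length three through its bottom
-/

set_option autoImplicit false
set_option linter.unusedSectionVars false
set_option linter.style.haveILetI false

universe u

open CategoryTheory CategoryTheory.Limits AlgebraicGeometry MonoidalCategory CartesianMonoidalCategory
open scoped MonObj

noncomputable section

namespace Groth.Agent.Red23Lib

open Groth.Agent.RedCell22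

/-- Four root groups of a two-step unipotent group, on points. -/
structure TwoStep (R H : Type*) [CommRing R] [Group H] where
  p₀ : R → H
  p₁ : R → H
  p₂ : R → H
  p₃ : R → H
  p₄ : R → H
  K : R
  L : R
  add₀ : ∀ x y, p₀ (x + y) = p₀ x * p₀ y
  add₁ : ∀ x y, p₁ (x + y) = p₁ x * p₁ y
  add₂ : ∀ x y, p₂ (x + y) = p₂ x * p₂ y
  add₃ : ∀ x y, p₃ (x + y) = p₃ x * p₃ y
  add₄ : ∀ x y, p₄ (x + y) = p₄ x * p₄ y
  c04 : ∀ x y, Commute (p₄ x) (p₀ y)
  c14 : ∀ x y, Commute (p₄ x) (p₁ y)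
  c24 : ∀ x y, Commute (p₄ x) (p₂ y)
  c34 : ∀ x y, Commute (p₄ x) (p₃ y)
  c01 : ∀ x y, Commute (p₀ x) (p₁ y)
  c02 : ∀ x y, Commute (p₀ x) (p₂ y)
  c13 : ∀ x y, Commute (p₁ x) (p₃ y)
  c23 : ∀ x y, Commute (p₂ x) (p₃ y)
  h03 : ∀ x y, p₀ x * p₃ y = p₄ (K * x * y) * p₃ y * p₀ x
  h12 : ∀ x y, p₁ x * p₂ y = p₄ (L * x * y) * p₂ y * p₁ x

namespace TwoStep

variable {R H : Type*} [CommRing R] [Group H] (Φ : TwoStep R H)

theorem p₄_zero : Φ.p₄ 0 = 1 := by simpa using Φ.add₄ 0 0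

theorem p₄_central (z : R) (g : H)
    (hg : g ∈ Subgroup.closure (Set.range Φ.p₀ ∪ Set.range Φ.p₁ ∪ Set.range Φ.p₂ ∪ Set.range Φ.p₃)) :
    Commute (Φ.p₄ z) g := by
  induction hg using Subgroup.closure_induction with
  | mem x hx =>
    rcases hx with ((⟨y, rfl⟩ | ⟨y, rfl⟩) | ⟨y, rfl⟩) | ⟨y, rfl⟩
    exacts [Φ.c04 z y, Φ.c14 z y, Φ.c24 z y, Φ.c34 z y]
  | one => exact Commute.one_right _
  | mul x y _ _ hx hy => exact hx.mul_right hy
  | inv x _ hx => exact hx.inv_right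

theorem h21 (y x : R) : Φ.p₂ y * Φ.p₁ x = Φ.p₄ (-(Φ.L * x * y)) * Φ.p₁ x * Φ.p₂ y := by
  rw [_root_.mul_assoc, Φ.h12, ← _root_.mul_assoc, ← _root_.mul_assoc, ← Φ.add₄, neg_add_cancel, p₄_zero,
    _root_.one_mul]

/-- A product in normal form. -/
def nf (a b c d e : R) : H := Φ.p₁ a * Φ.p₂ b * Φ.p₃ c * Φ.p₄ d * Φ.p₀ e

theorem nf_mul (a b c d e a' b' c' d' e' : R) :
    Φ.nf a b c d e * Φ.nf a' b' c' d' e' =
      Φ.nf (a + a') (b + b') (c + c') (d + d' + Φ.K * e * c' - Φ.L * a' * b) (e + e') := by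
  have hc := fun z => (Φ.c04 z)
  calc Φ.nf a b c d e * Φ.nf a' b' c' d' e'
      = Φ.p₁ a * Φ.p₂ b * Φ.p₃ c * Φ.p₄ d * ((Φ.p₀ e * Φ.p₁ a') * Φ.p₂ b' * Φ.p₃ c' * Φ.p₄ d' * Φ.p₀ e') := by
        simp only [nf, _root_.mul_assoc]
    _ = Φ.p₁ a * Φ.p₂ b * Φ.p₃ c * (Φ.p₄ d * Φ.p₁ a') * ((Φ.p₀ e * Φ.p₂ b') * Φ.p₃ c' * Φ.p₄ d' * Φ.p₀ e') := by
        rw [(Φ.c01 e a').eq]; simp only [_root_.mul_assoc]
    _ = Φ.p₁ a * Φ.p₂ b * (Φ.p₃ c * Φ.p₁ a') * (Φ.p₄ d * Φ.p₂ b') * ((Φ.p₀ e * Φ.p₃ c') * Φ.p₄ d' * Φ.p₀ e') := by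
        rw [(Φ.c14 d a').eq, (Φ.c02 e b').eq]; simp only [_root_.mul_assoc]
    _ = Φ.p₁ a * (Φ.p₂ b * Φ.p₁ a') * (Φ.p₃ c * Φ.p₂ b') * Φ.p₄ d *
          (Φ.p₄ (Φ.K * e * c') * Φ.p₃ c' * (Φ.p₀ e * Φ.p₄ d') * Φ.p₀ e') := by
        rw [← (Φ.c13 a' c).eq, (Φ.c24 d b').eq, Φ.h03]; simp only [_root_.mul_assoc]
    _ = (Φ.p₁ a * Φ.p₄ (-(Φ.L * a' * b))) * Φ.p₁ a' * (Φ.p₂ b * Φ.p₂ b') * Φ.p₃ c *
          ((Φ.p₄ d * Φ.p₄ (Φ.K * e * c')) * Φ.p₃ c') * Φ.p₄ d' * (Φ.p₀ e * Φ.p₀ e') := by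
        rw [Φ.h21, ← (Φ.c23 b' c).eq, ← (Φ.c04 d' e).eq]; simp only [_root_.mul_assoc]
    _ = Φ.p₄ (-(Φ.L * a' * b)) * (Φ.p₁ a * Φ.p₁ a') * Φ.p₂ (b + b') * (Φ.p₃ c * Φ.p₃ c') *
          (Φ.p₄ (d + Φ.K * e * c') * Φ.p₄ d') * Φ.p₀ (e + e') := by
        rw [← (Φ.c14 _ a).eq, ← Φ.add₂, ← Φ.add₄, ← Φ.add₀, (Φ.c34 _ c').eq]; simp only [_root_.mul_assoc]
    _ = Φ.p₄ (-(Φ.L * a' * b)) * (Φ.p₁ (a + a') * Φ.p₂ (b + b') * Φ.p₃ (c + c')) *
          Φ.p₄ (d + Φ.K * e * c' + d') * Φ.p₀ (e + e') := by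
        rw [← Φ.add₁, ← Φ.add₃, ← Φ.add₄]; simp only [_root_.mul_assoc]
    _ = (Φ.p₁ (a + a') * Φ.p₂ (b + b') * Φ.p₃ (c + c')) *
          (Φ.p₄ (-(Φ.L * a' * b)) * Φ.p₄ (d + Φ.K * e * c' + d')) * Φ.p₀ (e + e') := by
        rw [(((Φ.c14 _ (a + a')).mul_right (Φ.c24 _ (b + b'))).mul_right (Φ.c34 _ (c + c'))).eq]
        simp only [_root_.mul_assoc]
    _ = _ := by
        rw [← Φ.add₄, nf]
        congr 3
        ring

end TwoStep

variable {S : Scheme.{u}} {G : Over S} [GrpObj G] [IsAffineHom G.hom] {D : Red.SplitRed G}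

set_option maxHeartbeats 2000000 in
theorem comm_one_three (W : Signs D) {a b c₁ c₂ c₃ c₄ : D.idx} (hind : Indep D.P a b)
    (hm : D.P.root b - D.P.root a ∉ Set.range D.P.root) (hc₁ : D.P.root c₁ = D.P.root a + D.P.root b)
    (hc₂ : D.P.root c₂ = (2 : ℤ) • D.P.root a + D.P.root b) (hc₃ : D.P.root c₃ = (3 : ℤ) • D.P.root a + D.P.root b)
    (hc₄ : D.P.root c₄ = (3 : ℤ) • D.P.root a + (2 : ℤ) • D.P.root b) :
    ∃ ε : Fin 4 → ℤ, (∀ j, ε j = 1 ∨ ε j = -1) ∧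
      ∀ (A : Type u) [CommRing A] (β : Spec (CommRingCat.of A) ⟶ S) (x y : A),
        (ua D b y * ua D a x * (ua D b y)⁻¹ * (ua D a x)⁻¹ : tb β A ⟶ G) =
          ua D c₁ ((ε 0 : A) * x * y) * ua D c₂ ((ε 1 : A) * x ^ 2 * y) * ua D c₃ ((ε 2 : A) * x ^ 3 * y) *
            ua D c₄ ((ε 3 : A) * x ^ 3 * y ^ 2) := by
  classical
  have hle : D.P.pairing b a ≤ 0 := not_lt.1 fun hpos => hm (sub_root_mem hpos fun e => by
    have := (hind 1 (-1) (by rw [e]; simp)).1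
    omega)
  obtain ⟨q, hq'⟩ : ∃ q : ℕ, D.P.pairing b a = -(q : ℤ) := ⟨(-D.P.pairing b a).toNat, by omega⟩
  have h : IsString D.P a b q := ⟨hind, hm, hq'⟩
  obtain rfl : q = 3 := le_antisymm h.le_three (by exact_mod_cast h.top (i := 3) hc₃)
  have hpa : D.P.pairing a b = -1 := by
    obtain ⟨h1, h2, h3⟩ := h.pairing_bot_top three_pos
    omega
  have ha : D.P.root a = (1 : ℤ) • D.P.root a + (0 : ℤ) • D.P.root b := by simp
  have hb : D.P.root b = (0 : ℤ) • D.P.root a + (1 : ℤ) • D.P.root b := by simp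
  have h1 : D.P.root c₁ = (1 : ℤ) • D.P.root a + (1 : ℤ) • D.P.root b := by rw [hc₁]; simp
  have h2 : D.P.root c₂ = (2 : ℤ) • D.P.root a + (1 : ℤ) • D.P.root b := by rw [hc₂]; simp
  have h3 : D.P.root c₃ = (3 : ℤ) • D.P.root a + (1 : ℤ) • D.P.root b := by rw [hc₃]; simp
  have hlevel : ∀ (r : D.idx) (k j : ℤ), D.P.root r = k • D.P.root a + j • D.P.root b → 0 < j →
      (j = 1 ∧ 0 ≤ k ∧ k ≤ 3) ∨ (j = 2 ∧ k = 3) := fun r k j hr hj => by
    rcases h.classify hpa hj hr with h' | ⟨h', -⟩ | ⟨-, h1, h2⟩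
    exacts [Or.inl ⟨h'.1, h'.2.1, by exact_mod_cast h'.2.2⟩, absurd h' (by norm_num), Or.inr ⟨h1, h2⟩]
  -- the string in direction `b` through `c₃`
  have hindb : Indep D.P b c₃ := hind.of_root hb h3 (by norm_num)
  have hbc : IsString D.P b c₃ 1 := by
    refine ⟨hindb, fun ⟨r, hr⟩ => ?_, ?_⟩
    · have hr' : D.P.root r = (3 : ℤ) • D.P.root a + (0 : ℤ) • D.P.root b := by rw [hr, h3]; simp
      have h2' : 2 = 3 * D.P.pairing a r := by
        rw [← D.P.pairing_same r, pairing_pair hr']; ring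
      omega
    · rw [pairing_pair h3, hpa, D.P.pairing_same]; norm_num
  obtain ⟨r, hr, hr0, hru⟩ := h.seq
  have hr1 : r 1 = c₁ := hru 1 c₁ (by norm_num) (by rw [hc₁]; simp)
  have hr2 : r 2 = c₂ := hru 2 c₂ (by norm_num) (by rw [hc₂]; simp)
  have hr3 : r 3 = c₃ := hru 3 c₃ le_rfl (by rw [hc₃]; simp)
  obtain ⟨r', hr', hr0', hru'⟩ := hbc.seq
  have hr1' : r' 1 = c₄ := hru' 1 c₄ le_rfl (by rw [hc₄, hc₃]; module)
  refine ⟨![W.sg b a, -(W.sg a c₁ * W.sg b a), -W.sg a b, W.sg b c₃ * W.sg a b], fun j => ?_, fun A _ β x y => ?_⟩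
  · fin_cases j <;> simp only [Fin.reduceFinMk, Matrix.cons_val]
    exacts [W.sign _ _, sign_neg (sign_mul (W.sign _ _) (W.sign _ _)), sign_neg (W.sign _ _),
      sign_mul (W.sign _ _) (W.sign _ _)]
  obtain ⟨co, hco, htop, hc2, hc3⟩ := exists_coef W h r hr β
  have h01 := hco.zero_one W h three_pos hpa hr
  have t := htop three_pos
  have t2 := hc2 (by norm_num)
  obtain ⟨t20, t03, -⟩ := hc3 rfl
  rw [hr0] at t
  rw [hr1] at t20
  -- the three commutators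
  have hd : RedSub.Enumerates (commSet D a b) ![c₁, c₂, c₃, c₄] := by
    refine enumerates_cone hind ![c₁, c₂, c₃, c₄] ![1, 2, 3, 3] ![1, 1, 1, 2] (fun k => ?_) (fun k => ?_)
      (fun k l e e' => ?_) fun s i j hij hs => ?_
    · fin_cases k <;> simp [hc₁, hc₂, hc₃, hc₄]
    · fin_cases k <;> simp [posPair]
    · fin_cases k <;> fin_cases l <;> first | rfl | (simp at e; done) | (simp at e'; done)
    · rcases hlevel s i j hs hij.2 with ⟨rfl, -, hk⟩ | ⟨rfl, rfl⟩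
      · have := hij.1
        interval_cases i
        exacts [⟨0, rfl, rfl⟩, ⟨1, rfl, rfl⟩, ⟨2, rfl, rfl⟩]
      · exact ⟨3, rfl, rfl⟩
  obtain ⟨C, hC, hCxy⟩ := exists_comm_coords hind hd ![1, 2, 3, 3] ![1, 1, 1, 2]
    (fun k => by fin_cases k <;> simp [hc₁, hc₂, hc₃, hc₄]) β
  have e0 : C 0 = co 0 1 := hco 0 1 one_pos (by norm_num) 4 _ C 0 (hr0 ▸ hd) (hr0 ▸ hC) (by simp [hr1])
  have e1 : C 1 = co 0 2 := hco 0 2 two_pos (by norm_num) 4 _ C 1 (hr0 ▸ hd) (hr0 ▸ hC) (by simp [hr2])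
  have e2 : C 2 = co 0 3 := hco 0 3 three_pos le_rfl 4 _ C 2 (hr0 ▸ hd) (hr0 ▸ hC) (by simp [hr3])
  have hda : RedSub.Enumerates (commSet D a c₁) ![c₂, c₃, c₄] := by
    refine enumerates_cone (hind.of_root ha h1 (by norm_num)) ![c₂, c₃, c₄] ![1, 2, 1] ![1, 1, 2] (fun k => ?_)
      (fun k => ?_) (fun k l e e' => ?_) fun s i j hij hs => ?_
    · fin_cases k
      exacts [show D.P.root c₂ = (1 : ℤ) • D.P.root a + (1 : ℤ) • D.P.root c₁ by rw [h1, h2]; module,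
        show D.P.root c₃ = (2 : ℤ) • D.P.root a + (1 : ℤ) • D.P.root c₁ by rw [h1, h3]; module,
        show D.P.root c₄ = (1 : ℤ) • D.P.root a + (2 : ℤ) • D.P.root c₁ by rw [h1, hc₄]; module]
    · fin_cases k <;> simp [posPair]
    · fin_cases k <;> fin_cases l <;> first | rfl | (simp at e; done) | (simp at e'; done)
    · have := hij.1
      rcases hlevel s (i + j) j (by rw [hs, h1]; module) hij.2 with ⟨rfl, -, hk⟩ | ⟨rfl, hi⟩
      · obtain rfl | rfl : i = 1 ∨ i = 2 := by omega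
        exacts [⟨0, rfl, rfl⟩, ⟨1, rfl, rfl⟩]
      · exact ⟨2, by simp; omega, rfl⟩
  obtain ⟨P, hP, hPxy⟩ := exists_comm_coords (hind.of_root ha h1 (by norm_num)) hda ![1, 2, 1] ![1, 1, 2]
    (fun k => by
      fin_cases k
      exacts [show D.P.root c₂ = ((1 : ℕ) : ℤ) • D.P.root a + ((1 : ℕ) : ℤ) • D.P.root c₁ by rw [h1, h2]; push_cast; module,
        show D.P.root c₃ = ((2 : ℕ) : ℤ) • D.P.root a + ((1 : ℕ) : ℤ) • D.P.root c₁ by rw [h1, h3]; push_cast; module,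
        show D.P.root c₄ = ((1 : ℕ) : ℤ) • D.P.root a + ((2 : ℕ) : ℤ) • D.P.root c₁ by rw [h1, hc₄]; push_cast; module]) β
  have p0 : P 0 = co 1 2 := hco 1 2 one_lt_two (by norm_num) 3 _ P 0 (hr1 ▸ hda) (hr1 ▸ hP) (by simp [hr2])
  have hdb : RedSub.Enumerates (commSet D b c₃) ![c₄] := by
    refine enumerates_cone hindb ![c₄] (fun _ => 1) (fun _ => 1) (fun k => ?_) (fun k => ⟨one_pos, one_pos⟩)
      (fun k l _ _ => Subsingleton.elim k l) fun s i j hij hs => ⟨0, ?_⟩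
    · fin_cases k; simp [hc₃, hc₄]; module
    · have := hij.1
      have := hij.2
      rcases hlevel s (3 * j) (i + j) (by rw [hs, h3]; module) (by omega) with e | e <;> omega
  obtain ⟨K, hK, hKxy⟩ := exists_comm_coords hindb hdb (fun _ => 1) (fun _ => 1)
    (fun k => by fin_cases k; simp [hc₃, hc₄]; module) β
  obtain ⟨cK, hcK, htopK, -, -⟩ := exists_coef W hbc r' hr' β
  have eK : K 0 = W.sg b c₃ := by
    rw [hcK 0 1 one_pos le_rfl 1 _ K 0 (hr0'.symm ▸ hdb) (hr0'.symm ▸ hK) (by simp [hr1']), htopK one_pos, hr0']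
  have hdl : RedSub.Enumerates (commSet D c₁ c₂) ![c₄] := by
    refine enumerates_cone (hind.of_root h1 h2 (by norm_num)) ![c₄] (fun _ => 1) (fun _ => 1) (fun k => ?_)
      (fun k => ⟨one_pos, one_pos⟩) (fun k l _ _ => Subsingleton.elim k l) fun s i j hij hs => ⟨0, ?_⟩
    · fin_cases k; simp [hc₁, hc₂, hc₄]; module
    · have := hij.1
      have := hij.2
      rcases hlevel s (i + 2 * j) (i + j) (by rw [hs, h1, h2]; module) (by omega) with e | e <;> omega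
  obtain ⟨L, -, hLxy⟩ := exists_comm_coords (hind.of_root h1 h2 (by norm_num)) hdl (fun _ => 1) (fun _ => 1)
    (fun k => by fin_cases k; simp [hc₁, hc₂, hc₄]; module) β
  -- the two-step group
  have h4 : D.P.root c₄ = (3 : ℤ) • D.P.root a + (2 : ℤ) • D.P.root b := hc₄
  have hcm : ∀ (B : Type u) [CommRing B] [Algebra A B] (s t : D.idx) (k j k' j' : ℤ),
      D.P.root s = k • D.P.root a + j • D.P.root b → D.P.root t = k' • D.P.root a + j' • D.P.root b →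
      ¬ (k = k' ∧ j = j') → 0 < j + j' →
      ¬ ((j + j' = 1 ∧ 0 ≤ k + k' ∧ k + k' ≤ 3) ∨ (j + j' = 2 ∧ k + k' = 3)) →
      ∀ (u v : B), Commute (ua D s u : tb β B ⟶ G) (ua D t v) := by
    intro B _ _ s t k j k' j' hs ht hne hj hno u v
    have hsum : D.P.root s + D.P.root t = (k + k') • D.P.root a + (j + j') • D.P.root b := by
      rw [hs, ht]; module
    have hno' : D.P.root s + D.P.root t ∉ Set.range D.P.root := fun ⟨z, hz⟩ =>
      hno (hlevel z _ _ (hz.trans hsum) hj)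
    have hst : t ≠ s := fun e => by subst e; exact hne (hind.eq (hs.symm.trans ht))
    have h0 : D.P.root s + D.P.root t ≠ 0 := fun e => by
      have := hind (k + k') (j + j') (hsum.symm.trans e)
      omega
    exact Groth.Agent.S8458.result S G D s t h0 hno' (tb β B) (gaPt u) (gaPt v)
  let Φ : ∀ (B : Type u) [CommRing B] [Algebra A B], TwoStep B (tb β B ⟶ G) := fun B _ _ =>
    { p₀ := ua D b
      p₁ := ua D c₁
      p₂ := ua D c₂
      p₃ := ua D c₃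
      p₄ := ua D c₄
      K := algebraMap A B (K 0)
      L := algebraMap A B (L 0)
      add₀ := ua_add D b
      add₁ := ua_add D c₁
      add₂ := ua_add D c₂
      add₃ := ua_add D c₃
      add₄ := ua_add D c₄
      c04 := hcm B c₄ b 3 2 0 1 h4 hb (by omega) (by norm_num) (by norm_num)
      c14 := hcm B c₄ c₁ 3 2 1 1 h4 h1 (by omega) (by norm_num) (by norm_num)
      c24 := hcm B c₄ c₂ 3 2 2 1 h4 h2 (by omega) (by norm_num) (by norm_num)
      c34 := hcm B c₄ c₃ 3 2 3 1 h4 h3 (by omega) (by norm_num) (by norm_num)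
      c01 := hcm B b c₁ 0 1 1 1 hb h1 (by omega) (by norm_num) (by norm_num)
      c02 := hcm B b c₂ 0 1 2 1 hb h2 (by omega) (by norm_num) (by norm_num)
      c13 := hcm B c₁ c₃ 1 1 3 1 h1 h3 (by omega) (by norm_num) (by norm_num)
      c23 := hcm B c₂ c₃ 2 1 3 1 h2 h3 (by omega) (by norm_num) (by norm_num)
      h03 := fun x y => by
        have := hKxy B x y
        simp only [word, List.ofFn_succ, List.ofFn_zero, List.prod_singleton, Matrix.cons_val_zero, pow_one] at this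
        rw [← this]; group
      h12 := fun x y => by
        have := hLxy B x y
        simp only [word, List.ofFn_succ, List.ofFn_zero, List.prod_singleton, Matrix.cons_val_zero, pow_one] at this
        rw [← this]; group }
  -- conjugates of `b`
  have hconj : ∀ (B : Type u) [CommRing B] [Algebra A B] (s t : B), (ua D a s * ua D b t * (ua D a s)⁻¹ : tb β B ⟶ G) =
      (Φ B).nf (algebraMap A B (C 0) * s * t) (algebraMap A B (C 1) * s ^ 2 * t) (algebraMap A B (C 2) * s ^ 3 * t)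
        (algebraMap A B (C 3) * s ^ 3 * t ^ 2) t := fun B _ _ s t => by
    have := hCxy B s t
    rw [word_four] at this
    simp only [Matrix.cons_val, pow_one] at this
    simp only [TwoStep.nf, Φ, ← this]
    group
  have hΨ := isClosedSet_commSet hind
  have hnf : ∀ (B : Type u) [CommRing B] [Algebra A B] (a₁ a₂ a₃ a₄ a₁' a₂' a₃' a₄' e : B),
      (ua D c₁ a₁ * ua D c₂ a₂ * ua D c₃ a₃ * ua D c₄ a₄ * ua D b e : tb β B ⟶ G) =
        ua D c₁ a₁' * ua D c₂ a₂' * ua D c₃ a₃' * ua D c₄ a₄' * ua D b e → a₄ = a₄' :=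
    fun B _ _ a₁ a₂ a₃ a₄ a₁' a₂' a₃' a₄' e he => by
    simp only [mul_left_inj] at he
    have := congrFun (word_injective_of_closed (b := β) hΨ hd
      (show (word D ![c₁, c₂, c₃, c₄] ![a₁, a₂, a₃, a₄] : tb β B ⟶ G) = word D ![c₁, c₂, c₃, c₄] ![a₁', a₂', a₃', a₄']
        by rw [word_four, word_four]; simpa using he)) 3
    simpa using this
  have eY : 2 * C 3 = K 0 * C 2 - L 0 * C 0 * C 1 := by
    have e := hconj A 1 (1 + 1)
    rw [ua_add, show (ua D a 1 * (ua D b 1 * ua D b 1) * (ua D a 1)⁻¹ : tb β A ⟶ G) =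
      (ua D a 1 * ua D b 1 * (ua D a 1)⁻¹) * (ua D a 1 * ua D b 1 * (ua D a 1)⁻¹) by group,
      hconj A 1 1, TwoStep.nf_mul] at e
    simp only [TwoStep.nf, Φ] at e
    have := hnf A _ _ _ _ _ _ _ _ _ e
    simp [Φ] at this
    linear_combination -this
  have eX : 3 * C 3 = -(L 0 * C 0 * P 0 * C 0) := by
    let ε : DualNumber A := DualNumber.eps
    have hεε : ε * ε = 0 := DualNumber.eps_mul_eps
    have e := hconj (DualNumber A) (1 + ε) 1
    rw [ua_add, show (ua D a 1 * ua D a ε * ua D b 1 * (ua D a 1 * ua D a ε)⁻¹ : tb β (DualNumber A) ⟶ G) =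
      ua D a 1 * (ua D a ε * ua D b 1 * (ua D a ε)⁻¹) * (ua D a 1)⁻¹ by group, hconj (DualNumber A) ε 1] at e
    simp only [TwoStep.nf, Φ, pow_succ, pow_zero, _root_.one_mul, _root_.mul_one, hεε, mul_zero, zero_mul, ua_zero]
      at e
    have hP' := hPxy (DualNumber A) 1 (algebraMap A (DualNumber A) (C 0) * ε)
    rw [word_three] at hP'
    simp only [Matrix.cons_val, one_pow, _root_.mul_one, pow_one] at hP'
    rw [show (algebraMap A (DualNumber A) (C 0) * ε) ^ 2 = 0 by rw [mul_pow, pow_two ε, hεε, mul_zero],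
      mul_zero, ua_zero, _root_.mul_one] at hP'
    generalize hU : algebraMap A (DualNumber A) (C 0) * ε = u at e hP'
    generalize hV : algebraMap A (DualNumber A) (P 0) * u = v at hP'
    generalize hW' : algebraMap A (DualNumber A) (P 1) * u = w at hP'
    have h11 := hconj (DualNumber A) 1 1
    simp only [one_pow, _root_.mul_one] at h11
    have e' : ua D c₂ v * ua D c₃ w * ua D c₁ u * (Φ (DualNumber A)).nf (algebraMap A _ (C 0))
        (algebraMap A _ (C 1)) (algebraMap A _ (C 2)) (algebraMap A _ (C 3)) 1 =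
        (ua D a 1 * (ua D c₁ u * ua D b 1) * (ua D a 1)⁻¹ : tb β (DualNumber A) ⟶ G) := by
      rw [← hP', ← h11]
      group
    have zero : ∀ (s : D.idx), (ua D s (0 : DualNumber A) : tb β (DualNumber A) ⟶ G) = 1 := fun s => ua_zero D s
    have pre : (ua D c₂ v * ua D c₃ w * ua D c₁ u : tb β (DualNumber A) ⟶ G) =
        (Φ (DualNumber A)).nf u v w (-(algebraMap A _ (L 0) * u * v)) 0 := by
      have h21 := (Φ (DualNumber A)).h21 v u
      have c13 := (Φ (DualNumber A)).c13 u w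
      have c14 := (Φ (DualNumber A)).c14 (-(algebraMap A (DualNumber A) (L 0) * u * v)) u
      have c24 := (Φ (DualNumber A)).c24 (-(algebraMap A (DualNumber A) (L 0) * u * v)) v
      have c34 := (Φ (DualNumber A)).c34 (-(algebraMap A (DualNumber A) (L 0) * u * v)) w
      simp only [Φ] at h21 c13 c14 c24 c34
      simp only [TwoStep.nf, Φ, zero, _root_.mul_one]
      rw [_root_.mul_assoc, ← c13.eq, ← _root_.mul_assoc, h21]
      exact ((c14.mul_right c24).mul_right c34).eq.trans rfl |> fun q => by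
        simpa only [_root_.mul_assoc] using q
    rw [pre, TwoStep.nf_mul] at e'
    simp only [TwoStep.nf, Φ] at e'
    have fin := e'.trans e
    simp only [zero_add] at fin
    have := hnf (DualNumber A) _ _ _ _ _ _ _ _ _ fin
    subst hV hU
    have := congrArg TrivSqZeroExt.snd this
    simp [ε, Φ, TrivSqZeroExt.algebraMap_eq_inl, add_mul] at this
    linear_combination -this
  have e3 : C 3 = -(L 0 * C 0 * C 1) - K 0 * C 2 := by
    have t2' : 2 * C 1 = C 0 * P 0 := by rw [e0, e1, p0]; exact t2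
    linear_combination eX - eY + L 0 * C 0 * t2'
  -- the formula
  have s₁ := W.sq b a A
  have v0 : C 0 = -(W.sg b a : A) := e0.trans h01
  have v1 : C 1 = (W.sg a c₁ : A) * W.sg b a := by rw [e1, t20, h01]; ring
  have v2 : C 2 = (W.sg a b : A) := e2.trans t
  have hxy := hCxy A x y
  rw [word_four] at hxy
  simp only [Matrix.cons_val, pow_one, Algebra.algebraMap_self, RingHom.id_apply] at hxy
  rw [show (ua D b y * ua D a x * (ua D b y)⁻¹ * (ua D a x)⁻¹ : tb β A ⟶ G) =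
    (ua D a x * ua D b y * (ua D a x)⁻¹ * (ua D b y)⁻¹)⁻¹ by group, hxy]
  simp only [mul_inv_rev, ← ua_neg]
  have c12' := (Φ A).h21 (-(C 1 * x ^ 2 * y)) (-(C 0 * x * y))
  have q14 := (Φ A).c14 (-(C 3 * x ^ 3 * y ^ 2)) (-(C 0 * x * y))
  have q13 := (Φ A).c13 (-(C 0 * x * y)) (-(C 2 * x ^ 3 * y))
  have q23 := (Φ A).c23 (-(C 1 * x ^ 2 * y)) (-(C 2 * x ^ 3 * y))
  simp only [Φ, Algebra.algebraMap_self, RingHom.id_apply] at c12' q14 q13 q23
  have hcen : ∀ z : A, Commute (ua D c₄ z : tb β A ⟶ G)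
      (ua D c₁ (-(C 0 * x * y)) * ua D c₂ (-(C 1 * x ^ 2 * y)) * ua D c₃ (-(C 2 * x ^ 3 * y))) := fun z =>
    (((Φ A).c14 z _).mul_right ((Φ A).c24 z _)).mul_right ((Φ A).c34 z _)
  calc (ua D c₄ (-(C 3 * x ^ 3 * y ^ 2)) *
        (ua D c₃ (-(C 2 * x ^ 3 * y)) * (ua D c₂ (-(C 1 * x ^ 2 * y)) * ua D c₁ (-(C 0 * x * y)))) : tb β A ⟶ G)
      = ua D c₄ (-(C 3 * x ^ 3 * y ^ 2)) *
        ((ua D c₂ (-(C 1 * x ^ 2 * y)) * ua D c₁ (-(C 0 * x * y))) * ua D c₃ (-(C 2 * x ^ 3 * y))) := by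
        rw [← (q23.mul_left q13).eq]
    _ = ua D c₄ (-(C 3 * x ^ 3 * y ^ 2) + -(L 0 * -(C 0 * x * y) * -(C 1 * x ^ 2 * y))) *
        (ua D c₁ (-(C 0 * x * y)) * ua D c₂ (-(C 1 * x ^ 2 * y)) * ua D c₃ (-(C 2 * x ^ 3 * y))) := by
        rw [c12', ua_add]; group
    _ = _ := by
        rw [(hcen _).eq, v0, v1, v2, e3, eK]
        simp only [Matrix.cons_val]
        congr 1
        · congr 1
          · congr 1
            · congr 1; push_cast; ring
            · congr 1; push_cast; ring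
          · congr 1; push_cast; ring
        · congr 1
          push_cast
          rw [v0, v1, v2]
          ring

end Groth.Agent.Red23Lib

end
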