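import Groth.Agent.Red23Lib.Comm2.Basic

/-!
# The commutation formula for the middle of a string of length three
-/

set_option autoImplicit false
set_option linter.unusedSectionVars false
set_option linter.style.haveILetI false

universe u

open CategoryTheory CategoryTheory.Limits AlgebraicGeometry MonoidalCategory CartesianMonoidalCategory
open scoped MonObj

noncomputable section

namespace Groth.Agent.Red23Lib

open Groth.Agent.RedCell22

variable {S : Scheme.{u}} {G : Over S} [GrpObj G] [IsAffineHom G.hom] {D : Red.SplitRed G}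

set_option maxHeartbeats 2000000 in
theorem comm_two_two (W : Signs D) {a b c₁ c₂ c₃ : D.idx} (hind : Indep D.P a b)
    (hlen : |D.P.pairing a b| ≤ |D.P.pairing b a|)
    (hm1 : D.P.root b - D.P.root a ∈ Set.range D.P.root)
    (hm2 : D.P.root b - (2 : ℤ) • D.P.root a ∉ Set.range D.P.root)
    (hc₁ : D.P.root c₁ = D.P.root a + D.P.root b)
    (hc₂ : D.P.root c₂ = (2 : ℤ) • D.P.root a + D.P.root b)
    (hc₃ : D.P.root c₃ = D.P.root a + (2 : ℤ) • D.P.root b) :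
    ∃ ε₁ ε₂ ε₃ : ℤ, (ε₁ = 1 ∨ ε₁ = -1) ∧ (ε₂ = 1 ∨ ε₂ = -1) ∧ (ε₃ = 1 ∨ ε₃ = -1) ∧
      ∀ (A : Type u) [CommRing A] (β : Spec (CommRingCat.of A) ⟶ S) (x y : A),
        (ua D b y * ua D a x * (ua D b y)⁻¹ * (ua D a x)⁻¹ : tb β A ⟶ G) =
          ua D c₁ (2 * (ε₁ : A) * x * y) * ua D c₂ (3 * (ε₂ : A) * x ^ 2 * y) *
            ua D c₃ (3 * (ε₃ : A) * x * y ^ 2) := by
  classical
  obtain ⟨r₀, hr₀⟩ := hm1
  have hb : D.P.root b = (1 : ℤ) • D.P.root a + (1 : ℤ) • D.P.root r₀ := by rw [hr₀]; simp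
  have ha : D.P.root a = (1 : ℤ) • D.P.root a + (0 : ℤ) • D.P.root r₀ := by simp
  have hind₀ : Indep D.P a r₀ := hind.of_root (i := 1) (j := 0) (i' := -1) (j' := 1) (by simp)
    (by rw [hr₀]; module) (by norm_num)
  have hsub : D.P.root r₀ - D.P.root a ∉ Set.range D.P.root := fun ⟨r, hr⟩ =>
    hm2 ⟨r, by rw [hr, hr₀]; module⟩
  have hle : D.P.pairing r₀ a ≤ 0 := not_lt.1 fun hpos => hsub (sub_root_mem hpos fun e => by
    have := (hind₀ 1 (-1) (by rw [e]; simp)).1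
    omega)
  obtain ⟨q, hq'⟩ : ∃ q : ℕ, D.P.pairing r₀ a = -(q : ℤ) := ⟨(-D.P.pairing r₀ a).toNat, by omega⟩
  have h : IsString D.P a r₀ q := ⟨hind₀, hsub, hq'⟩
  have h2' : D.P.root c₂ = (3 : ℤ) • D.P.root a + D.P.root r₀ := by rw [hc₂, hb]; module
  obtain rfl : q = 3 := le_antisymm h.le_three (by exact_mod_cast h.top (i := 3) h2')
  have hpa : D.P.pairing a r₀ = -1 := by
    obtain ⟨h1, h2, h3⟩ := h.pairing_bot_top three_pos
    omega
  have hba : D.P.pairing b a = -1 := by rw [pairing_pair hb, hq', D.P.pairing_same]; norm_num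
  have hab : D.P.pairing a b = -1 := by
    obtain ⟨b1, b2, b3, b4, b5⟩ := hind.pairing_bound
    rw [hba] at b1 b2 b3 hlen
    norm_num at hlen
    obtain ⟨l1, l2⟩ := abs_le.mp hlen
    have : D.P.pairing a b ≠ 0 := fun e => by simpa using b3.mpr e
    omega
  -- the string in direction `b`
  set s₀ := D.P.reflectionPerm r₀ r₀ with hs₀'
  have hs₀ : D.P.root s₀ = (1 : ℤ) • D.P.root a + (-1 : ℤ) • D.P.root b := by
    rw [hs₀', D.P.root_reflectionPerm, D.P.reflection_apply_self, hr₀]; module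
  have hindb : Indep D.P b s₀ := hind.of_root (i := 0) (j := 1) (by simp) hs₀ (by norm_num)
  have hs : IsString D.P b s₀ 3 := by
    refine ⟨hindb, fun ⟨r, hr⟩ => ?_, ?_⟩
    · have hr' : D.P.root r = (1 : ℤ) • D.P.root a + (-2 : ℤ) • D.P.root b := by rw [hr, hs₀]; module
      have hi : Indep D.P r b := hind.of_root (i' := 0) (j' := 1) hr' (by simp) (by norm_num)
      have := hi.symm.pairing_bound.2.2.2.1
      rw [pairing_pair hr', hab, D.P.pairing_same] at this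
      omega
    · rw [pairing_pair hs₀, hab, D.P.pairing_same]; norm_num
  have hpb : D.P.pairing b s₀ = -1 := by
    obtain ⟨h1, h2, h3⟩ := hs.pairing_bot_top three_pos
    omega
  obtain ⟨r, hr, hr0, hru⟩ := h.seq
  have hr1 : r 1 = b := hru 1 b (by norm_num) (by rw [hb]; simp)
  have hr2 : r 2 = c₁ := hru 2 c₁ (by norm_num) (by rw [hc₁, hb]; push_cast; module)
  have hr3 : r 3 = c₂ := hru 3 c₂ le_rfl (by rw [h2']; simp)
  obtain ⟨r', hr', hr0', hru'⟩ := hs.seq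
  have hr1' : r' 1 = a := hru' 1 a (by norm_num) (by rw [hs₀]; push_cast; module)
  have hr3' : r' 3 = c₃ := hru' 3 c₃ le_rfl (by rw [hs₀, hc₃]; push_cast; module)
  refine ⟨W.sg a b, W.sg a r₀ * W.sg r₀ a, -(W.sg b s₀ * W.sg s₀ b), W.sign _ _,
    sign_mul (W.sign _ _) (W.sign _ _), sign_neg (sign_mul (W.sign _ _) (W.sign _ _)), fun A _ β x y => ?_⟩
  obtain ⟨co, hco, htop, hc2, hc3⟩ := exists_coef W h r hr β
  have h01 := hco.zero_one W h three_pos hpa hr
  have t := htop three_pos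
  have t2 := hc2 (by norm_num)
  obtain ⟨t20, t03, -⟩ := hc3 rfl
  rw [hr0] at t
  rw [hr1] at t20
  obtain ⟨co', hco', htop', -, hc3'⟩ := exists_coef W hs r' hr' β
  have h01' := hco'.zero_one W hs three_pos hpb hr'
  have t' := htop' three_pos
  obtain ⟨-, t03', -⟩ := hc3' rfl
  rw [hr0'] at t'
  have hd : RedSub.Enumerates (commSet D b a) ![c₁, c₂, c₃] := by
    refine enumerates_cone hind.symm ![c₁, c₂, c₃] ![1, 1, 2] ![1, 2, 1] (fun k => ?_) (fun k => ?_)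
      (fun k l e e' => ?_) fun s i j hij hs' => ?_
    · fin_cases k <;> simp [hc₁, hc₂, hc₃, add_comm]
    · fin_cases k <;> simp [posPair]
    · fin_cases k <;> fin_cases l <;> first | rfl | (simp at e; done) | (simp at e'; done)
    · have := hij.1
      have := hij.2
      rcases h.classify hpa hij.1 (k := i + j) (j := i) (by rw [hs', hb]; module) with
        ⟨rfl, -, hk⟩ | ⟨h', -⟩ | ⟨-, rfl, hk⟩
      · push_cast at hk
        obtain rfl | rfl : j = 1 ∨ j = 2 := by omega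
        exacts [⟨0, rfl, rfl⟩, ⟨1, rfl, rfl⟩]
      · omega
      · exact ⟨2, rfl, by simp; omega⟩
  obtain ⟨C, hC, hCxy⟩ := exists_comm_coords hind.symm hd ![1, 1, 2] ![1, 2, 1]
    (fun k => by fin_cases k <;> simp [hc₁, hc₂, hc₃, add_comm]) β
  obtain ⟨p', d', hd'⟩ := exists_enumerates (commSet D a b)
  obtain ⟨C', I', J', -, hC'⟩ := exists_comm hind hd' β
  have hC1 : (word D d' C' : tb β A ⟶ G) = ua D a 1 * ua D b 1 * (ua D a 1)⁻¹ * (ua D b 1)⁻¹ := by
    simpa using hC' A 1 1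
  obtain ⟨k₁, hk₁⟩ : c₁ ∈ Set.range d' := hd'.2.symm ▸ ⟨1, 1, ⟨one_pos, one_pos⟩, by rw [hc₁]; simp⟩
  obtain ⟨k₂, hk₂⟩ : c₂ ∈ Set.range d' := hd'.2.symm ▸ ⟨2, 1, ⟨two_pos, one_pos⟩, by rw [hc₂]; simp⟩
  have e0 : C 0 = -co 1 2 := by
    rw [comm_coord_swap hind hd' hd hC1 hC (k := k₁) (i := 1) (by simp [hk₁]) (by rw [hk₁, hc₁, one_smul]),
      hco 1 2 one_lt_two (by norm_num) p' d' C' k₁ (hr1.symm ▸ hd') (hr1.symm ▸ hC1) (by rw [hk₁, hr2])]
  have e1 : C 1 = -co 1 3 := by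
    rw [comm_coord_swap hind hd' hd hC1 hC (k := k₂) (i := 2) (by simp [hk₂]) (by rw [hk₂, hc₂]),
      hco 1 3 (by norm_num) le_rfl p' d' C' k₂ (hr1.symm ▸ hd') (hr1.symm ▸ hC1) (by rw [hk₂, hr3])]
  have e2 : C 2 = co' 1 3 :=
    hco' 1 3 (by norm_num) le_rfl 3 _ C 2 (hr1'.symm ▸ hd) (hr1'.symm ▸ hC) (by simp [hr3'])
  have s₁ := W.sq r₀ a A
  have s₁' := W.sq s₀ b A
  have v0 : C 0 = 2 * (W.sg a b : A) := by
    linear_combination e0 - (W.sg r₀ a : A) * t2 + 2 * (W.sg r₀ a : A) * t20 -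
      ((W.sg r₀ a : A) * co 1 2 + 2 * (W.sg r₀ a : A) * (W.sg a b : A)) * h01 +
      (co 1 2 + 2 * (W.sg a b : A)) * s₁
  have v1 : C 1 = 3 * ((W.sg a r₀ * W.sg r₀ a : ℤ) : A) := by
    push_cast
    linear_combination e1 - (W.sg r₀ a : A) * t03 + 3 * (W.sg r₀ a : A) * t -
      (W.sg r₀ a : A) * co 1 3 * h01 + co 1 3 * s₁
  have v2 : C 2 = 3 * ((-(W.sg b s₀ * W.sg s₀ b) : ℤ) : A) := by
    push_cast
    linear_combination e2 + (W.sg s₀ b : A) * t03' - 3 * (W.sg s₀ b : A) * t' +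
      (W.sg s₀ b : A) * co' 1 3 * h01' - co' 1 3 * s₁'
  rw [hCxy A y x, word_three]
  simp [v0, v1, v2, mul_comm, mul_left_comm]

end Groth.Agent.Red23Lib

end
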