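import Groth.Agent.RedCell22.CommLaw
import Groth.Agent.GrpSchLib.RankOneBraid

/-!
# The Weyl element of a root homomorphism and a dual one
-/

set_option autoImplicit false
set_option linter.unusedSectionVars false
set_option linter.style.haveILetI false

universe u

open CategoryTheory CategoryTheory.Limits AlgebraicGeometry MonoidalCategory CartesianMonoidalCategory
open scoped MonObj

noncomputable section

namespace Groth.Agent.Red23Lib

open Groth.Agent.RedCell22 Groth.Agent.GrpSchLib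

variable {S : Scheme.{u}} {G : Over S} [GrpObj G] (D : Red.SplitRed G)
variable {A : Type u} [CommRing A] {b : Spec (CommRingCat.of A) ⟶ S} {B : Type u} [CommRing B] [Algebra A B]

/-- The Weyl element of a root, for a given sign of the opposite root. -/
def wEl (sg : D.idx → D.idx → ℤ) (a : D.idx) : tb b B ⟶ G :=
  ua D a 1 * ua D (D.P.reflectionPerm a a) (sg a a : B) * ua D a 1

/-- Signs with which the Weyl elements permute the root groups. -/
structure Signs where
  sg : D.idx → D.idx → ℤ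
  sign : ∀ a c, sg a c = 1 ∨ sg a c = -1
  conj : ∀ {A : Type u} [CommRing A] (b : Spec (CommRingCat.of A) ⟶ S) {B : Type u} [CommRing B] [Algebra A B]
    (a c : D.idx) (x : B), (wEl D sg a : tb b B ⟶ G) * ua D c x * (wEl D sg a)⁻¹ =
      ua D (D.P.reflectionPerm a c) ((sg a c : B) * x)

/-- The value of a dual root homomorphism. -/
def md (vd : Red.Ga S ⟶ G) (y : B) : tb b B ⟶ G := gaPt y ≫ vd

theorem md_map {C : Type u} [CommRing C] [Algebra A C] (vd : Red.Ga S ⟶ G) (φ : B →ₐ[A] C) (y : B) :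
    tm b φ ≫ (md vd y : tb b B ⟶ G) = md vd (φ y) := by
  rw [md, ← Category.assoc, gaPt_map]; rfl

theorem md_add (vd : Red.Ga S ⟶ G) [IsMonHom vd] (x y : B) :
    (md vd (x + y) : tb b B ⟶ G) = md vd x * md vd y := by
  rw [md, gaPt_add, MonObj.mul_comp]; rfl

/-- The cocharacter of a coroot on ring-valued points. -/
def torA (a : D.idx) : Bˣ →* (tb b B ⟶ G) :=
  MonoidHom.mk' (fun z => tG D (tpt D (coVal D (D.P.coroot a).toAddMonoidHom z)))
    fun z w => by rw [coVal_mul, tpt_mul, tG_mul]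

theorem coroot_root (a c : D.idx) : (D.P.coroot a).toAddMonoidHom (D.P.root c) = D.P.pairing c a := by
  show (D.P.coroot a) (D.P.root c) = D.P.toLinearMap (D.P.root c) (D.P.coroot a)
  rw [D.pairing_eq]
  rfl

theorem torA_conj_ua (a c : D.idx) (z : Bˣ) (x : B) :
    (torA D a z : tb b B ⟶ G) * ua D c x * (torA D a z)⁻¹ =
      ua D c (((z ^ D.P.pairing c a : Bˣ) : B) * x) := by
  refine (conj_ua D _ c x).trans ?_
  rw [chr_coVal, coroot_root]

theorem torA_map {C : Type u} [CommRing C] [Algebra A C] (φ : B →ₐ[A] C) (a : D.idx) (z : Bˣ) :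
    tm b φ ≫ (torA D a z : tb b B ⟶ G) = torA D a (Units.map (φ : B →* C) z) := by
  show tm b φ ≫ tG D _ = tG D _
  rw [tG_map, tpt_map]
  congr 2
  refine MonoidHom.ext fun m => ?_
  simp [coVal, zpowersHom_apply]

/-- The commutation rule on ring-valued points. -/
def Rule (vd : Red.Ga S ⟶ G) (a : D.idx) : Prop :=
  ∀ {A : Type u} [CommRing A] (b : Spec (CommRingCat.of A) ⟶ S) {B : Type u} [CommRing B] [Algebra A B]
    (x y : B) (u : Bˣ), (u : B) = 1 + x * y →
    (ua D a x : tb b B ⟶ G) * md vd y =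
      md vd (((u⁻¹ : Bˣ) : B) * y) * torA D a u * ua D a (((u⁻¹ : Bˣ) : B) * x)

set_option maxHeartbeats 400000 in
theorem rule_of (avc : D.idx → (Red.Gm S ⟶ D.T))
    (havc : ∀ a, avc a = Red.DSmap S (D.P.coroot a).toAddMonoidHom ≫ D.split.inv.hom.hom)
    (a : D.idx) (vd : Red.Ga S ⟶ G)
    (hF : ∀ (X : Over S) (x y : X ⟶ Red.Ga S), IsUnit (1 + Red.gaFn x * Red.gaFn y) →
      ∃ (x' y' : X ⟶ Red.Ga S) (z : X ⟶ Red.Gm S), Red.gmFn z = 1 + Red.gaFn x * Red.gaFn y ∧
        Red.gaFn x' * Red.gmFn z = Red.gaFn x ∧ Red.gaFn y' * Red.gmFn z = Red.gaFn y ∧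
        (x ≫ D.u a) * (y ≫ vd) = (y' ≫ vd) * (z ≫ avc a ≫ D.i) * (x' ≫ D.u a)) :
    Rule D vd a := by
  intro A _ b B _ _ x y u hu
  have hone : gs (b := b) (B := B)
      (1 + Red.gaFn (gaPt x : tb b B ⟶ Red.Ga S) * Red.gaFn (gaPt y : tb b B ⟶ Red.Ga S)) = (u : B) := by
    rw [map_add, map_mul, map_one, gs_gaFn_gaPt, gs_gaFn_gaPt, hu]
  obtain ⟨x', y', z, hz, hx, hy, h⟩ := hF (tb b B) (gaPt x) (gaPt y) (by
    rw [← isUnit_map_iff (gs (b := b) (B := B)), hone]
    exact u.isUnit)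
  have hgz : gs (Red.gmFn z) = (u : B) := by rw [hz, hone]
  have hzu : gmUnit z = u := Units.ext (by rw [gmUnit_val, hgz])
  have coord : ∀ {p : tb b B ⟶ Red.Ga S} {r : B}, gs (Red.gaFn p * Red.gmFn z) = r →
      p = gaPt (((u⁻¹ : Bˣ) : B) * r) := fun {p r} hp => by
    rw [map_mul, hgz] at hp
    rw [← hp, _root_.mul_comm (gs (Red.gaFn p)), Units.inv_mul_cancel_left, gaPt_gaFn]
  rw [coord (p := x') (r := x) (by rw [hx, gs_gaFn_gaPt]), coord (p := y') (r := y) (by rw [hy, gs_gaFn_gaPt])] at h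
  refine h.trans ?_
  congr 2
  show z ≫ avc a ≫ D.i = tG D _
  rw [tG, ← Category.assoc]
  congr 1
  obtain ⟨χ, rfl⟩ := dsPt_surjective z
  rw [gmUnit_dsPt] at hzu
  subst hzu
  rw [havc, ← Category.assoc, dsPt_DSmap]
  show tpt D _ = tpt D _
  congr 1
  refine MonoidHom.ext fun m => ?_
  rw [← ofAdd_toAdd m, coVal_apply, ← map_zpow, ← ofAdd_zsmul, smul_eq_mul, _root_.mul_one]
  rfl

variable {D} {vd : Red.Ga S ⟶ G} {a : D.idx} [IsMonHom vd]

theorem torA_conj_md_of_unit (hR : Rule D vd a) (u h : Bˣ) (w : B) (hh : (h : B) = u - ((u : B) - 1) * w) :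
    (torA D a u : tb b B ⟶ G) * md vd w * (torA D a u)⁻¹ = md vd (((u⁻¹ : Bˣ) : B) ^ 2 * w) := by
  let s : Bˣ := u ^ 2 * h⁻¹
  let x : B := (u : B) - 1
  let y : B := u * ((h⁻¹ : Bˣ) : B) * w
  have hs : (s : B) = 1 + x * (1 + y) := by
    simp only [s, x, y, Units.val_mul, Units.val_pow_eq_pow_val]
    linear_combination (-(u : B) * ((h⁻¹ : Bˣ) : B)) * hh + (u : B) * h.mul_inv
  have h1 := hR b x 1 u (by simp [x])
  have h2 := hR b (((u⁻¹ : Bˣ) : B) * x) y (u⁻¹ * s) (by
    rw [Units.val_mul, hs]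
    simp only [x]
    linear_combination (u.inv_mul))
  have h3 := hR b x (1 + y) s hs
  rw [md_add, ← _root_.mul_assoc, h1, _root_.mul_assoc _ (ua D a _) (md vd y), h2] at h3
  have e : ((((u⁻¹ * s)⁻¹ : Bˣ) : Bˣ) : B) * (((u⁻¹ : Bˣ) : B) * x) = ((s⁻¹ : Bˣ) : B) * x := by
    rw [← _root_.mul_assoc, ← Units.val_mul]
    congr 2
    group
  rw [e, _root_.mul_one, map_mul, map_inv] at h3
  have h4 : (md vd (((u⁻¹ : Bˣ) : B)) : tb b B ⟶ G) * torA D a u * md vd ((((u⁻¹ * s)⁻¹ : Bˣ) : B) * y) *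
      (torA D a u)⁻¹ = md vd (((s⁻¹ : Bˣ) : B) * (1 + y)) := by
    refine mul_right_cancel (b := torA D a s * ua D a (((s⁻¹ : Bˣ) : B) * x)) ?_
    rw [← _root_.mul_assoc (md vd (((s⁻¹ : Bˣ) : B) * (1 + y)))]
    refine Eq.trans ?_ h3
    group
  have hw : (((u⁻¹ * s)⁻¹ : Bˣ) : B) * y = w := by
    simp only [s, y, mul_inv_rev, inv_inv, Units.val_mul, ← inv_pow, Units.val_pow_eq_pow_val]
    linear_combination (u : B) * (u : B) * ((u⁻¹ : Bˣ) : B) ^ 2 * w * h.mul_inv +
      ((u : B) * ((u⁻¹ : Bˣ) : B) + 1) * w * u.mul_inv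
  rw [hw] at h4
  have key : ((s⁻¹ : Bˣ) : B) * (1 + y) = ((u⁻¹ : Bˣ) : B) + ((u⁻¹ : Bˣ) : B) ^ 2 * w := by
    simp only [s, y, mul_inv_rev, inv_inv, Units.val_mul, ← inv_pow, Units.val_pow_eq_pow_val]
    linear_combination ((u⁻¹ : Bˣ) : B) ^ 2 * hh + (u : B) * ((u⁻¹ : Bˣ) : B) ^ 2 * w * h.mul_inv +
      ((u⁻¹ : Bˣ) : B) * u.mul_inv
  rw [key, md_add, _root_.mul_assoc, _root_.mul_assoc] at h4
  rw [_root_.mul_assoc]
  exact mul_left_cancel h4

variable [IsAffineHom G.hom]

/-- The dual root homomorphism is normalised by the coroot. -/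
theorem torA_conj_md (hR : Rule D vd a) (u : Bˣ) (w : B) :
    (torA D a u : tb b B ⟶ G) * md vd w * (torA D a u)⁻¹ = md vd (((u⁻¹ : Bˣ) : B) ^ 2 * w) := by
  classical
  let β : B := (u : B) - 1
  let f : Polynomial B := (Polynomial.C (u : B) - Polynomial.C β * Polynomial.X) *
    (Polynomial.C (u : B) - Polynomial.C β * (Polynomial.C w - Polynomial.X))
  let R := Localization.Away f
  let φ : B →ₐ[A] R := IsScalarTower.toAlgHom A B R
  have hφ : Function.Injective φ := by
    refine (injective_iff_map_eq_zero φ).mpr fun r hr => ?_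
    change algebraMap B R r = 0 at hr
    rw [IsScalarTower.algebraMap_apply B (Polynomial B) R, IsLocalization.map_eq_zero_iff (Submonoid.powers f) R] at hr
    obtain ⟨⟨_, n, rfl⟩, hn⟩ := hr
    by_contra hr0
    obtain ⟨m, hm, hle⟩ := Ideal.exists_le_maximal (Submodule.span B {r}).annihilator
      (by rw [Ne, Submodule.annihilator_eq_top_iff, Submodule.span_singleton_eq_bot]; exact hr0)
    letI := Ideal.Quotient.field m
    have hz : Polynomial.map (Ideal.Quotient.mk m) (f ^ n) = 0 := by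
      ext i
      rw [Polynomial.coeff_map, Polynomial.coeff_zero, Ideal.Quotient.eq_zero_iff_mem]
      refine hle (Submodule.mem_annihilator_span_singleton _ _ |>.mpr ?_)
      have := congrArg (fun P => Polynomial.coeff P i) hn
      simpa [Polynomial.coeff_mul_C, smul_eq_mul] using this
    rw [Polynomial.map_pow] at hz
    have hu : Ideal.Quotient.mk m (u : B) ≠ 0 := ((Ideal.Quotient.mk m).isUnit_map u.isUnit).ne_zero
    have hf := eq_zero_of_pow_eq_zero hz
    simp only [f, Polynomial.map_mul, mul_eq_zero, Polynomial.map_sub, Polynomial.map_C, Polynomial.map_X] at hf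
    rcases hf with hf | hf
    · exact hu (by simpa using congrArg (fun P => Polynomial.coeff P 0) hf)
    · have h1 : Ideal.Quotient.mk m β = 0 := by simpa [mul_sub] using congrArg (fun P => Polynomial.coeff P 1) hf
      exact hu (by simpa [h1] using congrArg (fun P => Polynomial.coeff P 0) hf)
  refine eq_of_tm b hφ ?_
  simp only [MonObj.comp_mul, GrpObj.comp_inv, torA_map, md_map, map_mul, map_pow]
  let u' : Rˣ := Units.map (φ : B →* R) u
  let T : R := algebraMap (Polynomial B) R Polynomial.X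
  have hC : ∀ r : B, algebraMap (Polynomial B) R (Polynomial.C r) = φ r := fun r => by
    show _ = algebraMap B R r
    rw [IsScalarTower.algebraMap_apply B (Polynomial B) R, Polynomial.algebraMap_eq]
  have hunit : IsUnit ((u' : R) - ((u' : R) - 1) * T) ∧ IsUnit ((u' : R) - ((u' : R) - 1) * (φ w - T)) := by
    refine IsUnit.mul_iff.mp ?_
    have := IsLocalization.Away.algebraMap_isUnit (S := R) f
    simpa [f, β, T, u', hC] using this
  obtain ⟨⟨g₁, hg₁⟩, g₂, hg₂⟩ := hunit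
  have key := congrArg₂ (· * ·) (torA_conj_md_of_unit (b := b) hR u' g₁ T hg₁)
    (torA_conj_md_of_unit (b := b) hR u' g₂ (φ w - T) hg₂)
  simp only [← md_add, ← mul_add, add_sub_cancel] at key
  refine Eq.trans ?_ (key.trans ?_)
  · conv_lhs => rw [show φ w = T + (φ w - T) from (add_sub_cancel T _).symm, md_add]
    simp only [u']
    group
  · simp only [u', ← map_inv]
    rfl

/-- The rank-one system of a root homomorphism with a dual one. -/
def rankSys (hR : Rule D vd a) : RankOne.Sys B (tb b B ⟶ G) Bˣ where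
  p := ua D a
  m := md vd
  I := torA D a
  a := powMonoidHom 2
  av := MonoidHom.id _
  p_add := ua_add D a
  m_add := md_add vd
  conj_p t x := by
    rw [torA_conj_ua, D.P.pairing_same]
    simp
  conj_m t y := by
    rw [torA_conj_md hR]
    simp
  a_av v := rfl
  rule := hR b

/-- The Weyl element conjugates the root homomorphism into its dual. -/
theorem weyl_conj_one (hR : Rule D vd a) :
    (ua D a 1 * md vd (-1) * ua D a 1 : tb b B ⟶ G) * ua D a 1 * (ua D a 1 * md vd (-1) * ua D a 1)⁻¹ =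
      md vd (-1) := by
  let P : Polynomial B := Polynomial.X ^ 2 - Polynomial.X + 1
  have hP : P.Monic := by simp only [P]; monicity!
  let R := AdjoinRoot P
  let φ : B →ₐ[A] R := IsScalarTower.toAlgHom A B R
  have hφ : Function.Injective φ := by
    rcases subsingleton_or_nontrivial B with hB | hB
    · exact Function.injective_of_subsingleton _
    refine (injective_iff_map_eq_zero φ).mpr fun r hr => ?_
    by_contra hr0
    refine hP.not_dvd_of_natDegree_lt (Polynomial.C_ne_zero.mpr hr0) ?_ (AdjoinRoot.mk_eq_zero.mp ?_)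
    · rw [Polynomial.natDegree_C, show P.natDegree = 2 by simp only [P]; compute_degree!]
      norm_num
    · rw [AdjoinRoot.mk_C]
      exact hr
  have hroot : AdjoinRoot.root P * (1 - AdjoinRoot.root P) = 1 := by
    have h : AdjoinRoot.mk P (Polynomial.X ^ 2 - Polynomial.X + 1) = 0 := AdjoinRoot.mk_self
    simp only [map_add, map_sub, map_pow, map_one, AdjoinRoot.mk_X] at h
    linear_combination -h
  refine eq_of_tm b hφ ?_
  simp only [MonObj.comp_mul, GrpObj.comp_inv, ua_map, md_map, map_neg, map_one]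
  have key := (rankSys (b := b) (B := R) hR).braid_of_unit (-1) (Units.mkOfMulEqOne _ _ hroot)
    (Units.mkOfMulEqOne _ _ ((_root_.mul_comm _ _).trans hroot)) rfl
  simp only [RankOne.Sys.w, rankSys, inv_neg, inv_one, Units.val_neg, Units.val_one, neg_neg] at key
  rw [mul_inv_eq_iff_eq_mul]
  generalize (ua D a (1 : R) : tb b R ⟶ G) = p at key ⊢
  generalize (md vd (-1 : R) : tb b R ⟶ G) = m at key ⊢
  calc p * m * p * p = m * p * m * p := by rw [← key]
    _ = m * (p * m * p) := by group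

variable (D) in
theorem exists_signs (e₁ : 𝟙_ (Over S) ⟶ Red.Ga S) (he₁ : Red.gaFn e₁ = 1)
    (avc : D.idx → (Red.Gm S ⟶ D.T))
    (havc : ∀ a, avc a = Red.DSmap S (D.P.coroot a).toAddMonoidHom ≫ D.split.inv.hom.hom)
    (vd : D.idx → (Red.Ga S ⟶ G))
    (hvd : ∀ c, IsMonHom (vd c) ∧ ∀ (X : Over S) (x y : X ⟶ Red.Ga S), IsUnit (1 + Red.gaFn x * Red.gaFn y) →
      ∃ (x' y' : X ⟶ Red.Ga S) (z : X ⟶ Red.Gm S), Red.gmFn z = 1 + Red.gaFn x * Red.gaFn y ∧
        Red.gaFn x' * Red.gmFn z = Red.gaFn x ∧ Red.gaFn y' * Red.gmFn z = Red.gaFn y ∧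
        (x ≫ D.u c) * (y ≫ vd c) = (y' ≫ vd c) * (z ≫ avc c ≫ D.i) * (x' ≫ D.u c))
    (n : D.idx → (𝟙_ (Over S) ⟶ G))
    (hn : ∀ c, n c = (e₁ ≫ D.u c) * (e₁ ≫ vd c)⁻¹ * (e₁ ≫ D.u c))
    (hSC : ∀ c r, ∃ ε : ℤ, (ε = 1 ∨ ε = -1) ∧ ∀ (X : Over S) (x y : X ⟶ Red.Ga S),
      Red.gaFn y = (ε : Γ(X.left, ⊤)) * Red.gaFn x →
        (toUnit X ≫ n c) * (x ≫ D.u r) * (toUnit X ≫ n c)⁻¹ = y ≫ D.u (D.P.reflectionPerm c r)) :
    Nonempty (Signs D) := by
  choose sg hη hconj using hSC
  have hpt : ∀ {A : Type u} [CommRing A] (b : Spec (CommRingCat.of A) ⟶ S) {B : Type u} [CommRing B] [Algebra A B]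
      (c r : D.idx) (x : B), (ua D c 1 * md (vd c) (-1) * ua D c 1 : tb b B ⟶ G) * ua D r x *
        (ua D c 1 * md (vd c) (-1) * ua D c 1)⁻¹ = ua D (D.P.reflectionPerm c r) ((sg c r : B) * x) := by
    intro A _ b B _ _ c r x
    haveI : IsMonHom (vd c) := (hvd c).1
    have he : toUnit (tb b B) ≫ e₁ = gaPt 1 := by
      rw [← gaPt_gaFn (toUnit (tb b B) ≫ e₁)]
      congr 1
      rw [GaPts.gaFn_comp, he₁, map_one, map_one]
    have hmd : (md (vd c) (-1 : B) : tb b B ⟶ G) = (md (vd c) 1)⁻¹ := by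
      rw [eq_inv_iff_mul_eq_one, ← md_add, neg_add_cancel]
      have h0 := md_add (b := b) (vd c) (0 : B) 0
      rw [add_zero] at h0
      exact mul_eq_left.mp h0.symm
    have hW : toUnit (tb b B) ≫ n c = ua D c 1 * md (vd c) (-1) * ua D c 1 := by
      rw [hn, hmd]
      simp only [MonObj.comp_mul, GrpObj.comp_inv, ← Category.assoc, he]
      rfl
    rw [← hW]
    exact hconj c r (tb b B) (gaPt x) (gaPt _) (gs.injective (by
      rw [map_mul, map_intCast, gs_gaFn_gaPt, gs_gaFn_gaPt]))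
  refine ⟨⟨sg, hη, fun {A} _ b {B} _ _ c r x => ?_⟩⟩
  haveI : IsMonHom (vd c) := (hvd c).1
  have h1 := (weyl_conj_one (b := b) (B := B) (a := c) (rule_of D avc havc c (vd c) (hvd c).2)).symm.trans (hpt b c c 1)
  rw [_root_.mul_one] at h1
  have hw : (wEl D sg c : tb b B ⟶ G) = ua D c 1 * md (vd c) (-1) * ua D c 1 := by rw [wEl, h1]
  rw [hw]
  exact hpt b c r x

end Groth.Agent.Red23Lib

end
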