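import Groth.Agent.Red23Lib.Comm2.Strings
import Groth.Agent.Red23Lib.Comm2.Dual
import Groth.Agent.RedCell22.LeviOp
import Mathlib.Algebra.DualNumber

/-!
# The structure constants on the first level of a string
-/

set_option autoImplicit false
set_option linter.unusedSectionVars false
set_option linter.style.haveILetI false

universe u

open CategoryTheory CategoryTheory.Limits AlgebraicGeometry MonoidalCategory CartesianMonoidalCategory
open scoped MonObj

noncomputable section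

namespace Groth.Agent.Red23Lib

open Groth.Agent.RedCell22

variable {S : Scheme.{u}} {G : Over S} [GrpObj G] [IsAffineHom G.hom] {D : Red.SplitRed G}
variable {A : Type u} [CommRing A] {b : Spec (CommRingCat.of A) ⟶ S} {B : Type u} [CommRing B] [Algebra A B]

/-- The commutator of two root groups in given coordinates. -/
theorem exists_comm_coords {a c : D.idx} (hind : Indep D.P a c) {p : ℕ} {d : Fin p → D.idx}
    (hd : RedSub.Enumerates (commSet D a c) d) (P Q : Fin p → ℕ)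
    (hPQ : ∀ k, D.P.root (d k) = (P k : ℤ) • D.P.root a + (Q k : ℤ) • D.P.root c)
    (b : Spec (CommRingCat.of A) ⟶ S) :
    ∃ C : Fin p → A, (word D d C : tb b A ⟶ G) = ua D a 1 * ua D c 1 * (ua D a 1)⁻¹ * (ua D c 1)⁻¹ ∧
      ∀ (B : Type u) [CommRing B] [Algebra A B] (x y : B),
        (ua D a x * ua D c y * (ua D a x)⁻¹ * (ua D c y)⁻¹ : tb b B ⟶ G) =
          word D d fun k => algebraMap A B (C k) * x ^ P k * y ^ Q k := by
  obtain ⟨C, I, J, hIJ, hC⟩ := exists_comm hind hd b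
  obtain rfl : I = P := funext fun k => by exact_mod_cast (hind.eq ((hIJ k).2.2.symm.trans (hPQ k))).1
  obtain rfl : J = Q := funext fun k => by exact_mod_cast (hind.eq ((hIJ k).2.2.symm.trans (hPQ k))).2
  exact ⟨C, by simpa using hC A 1 1, fun B _ _ x y => (hC B x y).symm⟩

/-- Reversing a commutator changes the sign of the coordinates of the first level. -/
theorem comm_coord_swap {a c : D.idx} (hind : Indep D.P a c) {p p' : ℕ} {d : Fin p → D.idx}
    {d' : Fin p' → D.idx} (hd : RedSub.Enumerates (commSet D a c) d)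
    (hd' : RedSub.Enumerates (commSet D c a) d') {C : Fin p → A} {C' : Fin p' → A}
    (hC : (word D d C : tb b A ⟶ G) = ua D a 1 * ua D c 1 * (ua D a 1)⁻¹ * (ua D c 1)⁻¹)
    (hC' : (word D d' C' : tb b A ⟶ G) = ua D c 1 * ua D a 1 * (ua D c 1)⁻¹ * (ua D a 1)⁻¹)
    {k : Fin p} {k' : Fin p'} (hk : d' k' = d k) {i : ℤ}
    (hroot : D.P.root (d k) = i • D.P.root a + D.P.root c) : C' k' = -C k := by
  classical
  have hΨ := isClosedSet_commSet hind
  have hindec : Indec D (commSet D a c) (d k) :=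
    indec_cone hind (R := posPair) (fun _ _ h => h.2) hroot
  have hmem : ∀ m, Fin.append d d' m ∈ commSet D a c := fun m => by
    induction m using Fin.addCases with
    | left m => rw [Fin.append_left]; exact (Set.ext_iff.mp hd.2 _).mp ⟨m, rfl⟩
    | right m => rw [Fin.append_right, commSet_swap]; exact (Set.ext_iff.mp hd'.2 _).mp ⟨m, rfl⟩
  have h := coord_word (b := b) hΨ hd hindec _ hmem (Fin.append C C') (fun _ => 0) (by
    rw [word_zero, word_append, hC, hC']
    group)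
  rw [Fin.sum_univ_add] at h
  simp only [Fin.append_left, Fin.append_right, hd.1.eq_iff, ← hk, hd'.1.eq_iff] at h
  rw [Finset.sum_eq_single k (fun m _ hm => if_neg fun e => hm (hd.1 (e.trans hk))) (by simp),
    if_pos hk.symm, Finset.sum_eq_single k' (fun m _ hm => if_neg hm) (by simp), if_pos rfl] at h
  linear_combination -h

variable {p : ℕ} {E : Fin p → D.idx} {J : Fin p → ℤ}

theorem op_unique {Ψ : Set D.idx} (hΨ : IsClosedSet D.P Ψ) (hE : RedSub.Enumerates Ψ E) {g g' : tb b B ⟶ G}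
    {M M' : Fin p → Fin p → B} (h : Op E J g M) (h' : Op E J g' M') (hg : g = g') {k : Fin p} (l : Fin p)
    (hk : J k = 1) : M k l = M' k l := by
  subst hg
  obtain ⟨z, hz, hzk⟩ := h.2 (Pi.single l 1)
  obtain ⟨z', hz', hzk'⟩ := h'.2 (Pi.single l 1)
  obtain rfl := word_injective_of_closed hΨ hE (hz.trans hz'.symm)
  have := (hzk k hk).symm.trans (hzk' k hk)
  simpa [Pi.single_apply] using this

/-- The linear action of a Weyl element. -/
theorem exists_op_wEl (W : Signs D) {a r₀ : D.idx} {q : ℕ} (h : IsString D.P a r₀ q)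
    (hE : RedSub.Enumerates (cone D a r₀ upper) E) {I : Fin p → ℤ}
    (hIJ : ∀ k, D.P.root (E k) = I k • D.P.root a + J k • D.P.root r₀) :
    ∃ N : Fin p → Fin p → B, Op E J (wEl D W.sg a : tb b B ⟶ G) N ∧
      ∀ k l, J k = 1 → (E k = D.P.reflectionPerm a (E l) → N k l = (W.sg a (E l) : B)) ∧
        (E k ≠ D.P.reflectionPerm a (E l) → N k l = 0) := by
  classical
  have hσ : ∀ l, ∃ m, E m = D.P.reflectionPerm a (E l) ∧ J m = J l := fun l => by
    obtain ⟨i, j, hj, hr⟩ := ((Set.ext_iff.mp hE.2 _).mp ⟨l, rfl⟩ : E l ∈ cone D a r₀ upper)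
    obtain ⟨m, hm⟩ : D.P.reflectionPerm a (E l) ∈ Set.range E := by rw [hE.2]; exact ⟨j * q - i, j, hj, h.reflect hr⟩
    have e1 := h.ind.eq ((hIJ l).symm.trans hr)
    have e2 := h.ind.eq ((hIJ m).symm.trans ((congrArg D.P.root hm).trans (h.reflect hr)))
    exact ⟨m, hm, by rw [e1.2, e2.2]⟩
  choose σ hσE hσJ using hσ
  refine ⟨fun k l => if k = σ l then (W.sg a (E l) : B) else 0,
    ⟨fun k l hk hl => if_neg fun e => hl ?_, fun v => ?_⟩, fun k l _ => ⟨fun e => ?_, fun e => ?_⟩⟩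
  · rw [← hσJ l, ← e, hk]
  · obtain ⟨z, hz, hzk⟩ := exists_coord_prod (isClosedSet_upper h.ind) hE
      (fun l => ua D (E (σ l)) ((W.sg a (E l) : B) * v l))
      (fun l => Pi.single (σ l) ((W.sg a (E l) : B) * v l)) (fun l => word_single (b := b) D E _ _)
    refine ⟨z, hz.trans ?_, fun k hk => ?_⟩
    · refine Eq.trans ?_ (map_list_prod (MulAut.conj (wEl D W.sg a : tb b B ⟶ G)).toMonoidHom _).symm
      rw [List.map_ofFn]
      refine congrArg List.prod (congrArg List.ofFn (funext fun l => ?_))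
      show _ = wEl D W.sg a * ua D (E l) (v l) * (wEl D W.sg a)⁻¹
      rw [W.conj, hσE]
    · rw [hzk k (indec_cone h.ind (fun _ _ h => h) (i₀ := I k) (by rw [hIJ k, hk, one_smul]))]
      exact Finset.sum_congr rfl fun l _ => by simp [Pi.single_apply, ite_mul]
  · exact if_pos (hE.1 (e.trans (hσE l).symm))
  · exact if_neg fun e' => e (by rw [e', hσE])

/-- The structure constants on the first level of a string. -/
def IsCoef (D : Red.SplitRed G) (b : Spec (CommRingCat.of A) ⟶ S) (a : D.idx) (r : ℕ → D.idx) (q : ℕ)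
    (c : ℕ → ℕ → A) : Prop :=
  ∀ i j, i < j → j ≤ q → ∀ (p : ℕ) (d : Fin p → D.idx) (C : Fin p → A) (k : Fin p),
    RedSub.Enumerates (commSet D a (r i)) d →
    (word D d C : tb b A ⟶ G) = ua D a 1 * ua D (r i) 1 * (ua D a 1)⁻¹ * (ua D (r i) 1)⁻¹ →
    d k = r j → C k = c i j

theorem exists_coef (W : Signs D) {a r₀ : D.idx} {q : ℕ} (h : IsString D.P a r₀ q) (r : ℕ → D.idx)
    (hr : ∀ i ≤ q, D.P.root (r i) = (i : ℤ) • D.P.root a + D.P.root r₀) (b : Spec (CommRingCat.of A) ⟶ S) :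
    ∃ c : ℕ → ℕ → A, IsCoef D b a r q c ∧ (0 < q → c 0 q = W.sg a (r 0)) ∧
      (2 ≤ q → 2 * c 0 2 = c 0 1 * c 1 2) ∧
      (q = 3 → c 0 2 = -((W.sg a (r 1) : A) * c 0 1) ∧ 3 * c 0 3 = c 0 1 * c 1 3 ∧
        c 2 3 = (W.sg a (r 2) : A) * c 1 3) := by
  classical
  have hind := h.ind
  have hna : D.P.root (D.P.reflectionPerm a a) = (-1 : ℤ) • D.P.root a := by
    rw [D.P.root_reflectionPerm, D.P.reflection_apply_self, neg_one_smul]
  obtain ⟨p, E, hE⟩ := exists_enumerates (cone D a r₀ upper)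
  have hΨ := isClosedSet_upper hind
  choose I J hJ hIJ using fun i => ((Set.ext_iff.mp hE.2 (E i)).mp ⟨i, rfl⟩ : E i ∈ cone D a r₀ upper)
  have hlev : ∀ i, ∃ m, i ≤ q → E m = r i ∧ I m = i ∧ J m = 1 := fun i => by
    by_cases hi : i ≤ q
    · obtain ⟨m, hm⟩ : r i ∈ Set.range E :=
        hE.2.symm ▸ ⟨i, 1, (zero_lt_one : (0 : ℤ) < 1), by rw [hr i hi, one_smul]⟩
      have := hind.eq (i := I m) (j := J m) (i' := i) (j' := 1) (by rw [← hIJ, hm, hr i hi, one_smul])
      exact ⟨m, fun _ => ⟨hm, this.1, this.2⟩⟩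
    · obtain ⟨m, -⟩ : r 0 ∈ Set.range E :=
        hE.2.symm ▸ ⟨(0 : ℕ), 1, (zero_lt_one : (0 : ℤ) < 1), by rw [hr 0 (Nat.zero_le _), one_smul]⟩
      exact ⟨m, fun h' => absurd h' hi⟩
  choose k hk using hlev
  have hkE := fun i hi => (hk i hi).1
  have hkI := fun i hi => (hk i hi).2.1
  have hkJ := fun i hi => (hk i hi).2.2
  have hk_inj : ∀ i j, i ≤ q → j ≤ q → k i = k j → i = j := fun i j hi hj e => by
    have := congrArg I e
    rw [hkI i hi, hkI j hj] at this
    exact_mod_cast this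
  have hsum : ∀ (B : Type u) [CommRing B] (f : Fin p → B), (∀ m, J m ≠ 1 → f m = 0) →
      ∑ m, f m = ∑ i ∈ Finset.range (q + 1), f (k i) := fun B _ f hf => by
    have himg : ∀ i ∈ Finset.range (q + 1), i ≤ q := fun i hi => Nat.lt_succ_iff.mp (Finset.mem_range.mp hi)
    rw [← Finset.sum_image (f := f) fun i hi j hj e => hk_inj i j (himg i hi) (himg j hj) e]
    refine (Finset.sum_subset (Finset.subset_univ _) fun m _ hm => hf m fun hJm => hm ?_).symm
    have hroot : D.P.root (E m) = I m • D.P.root a + D.P.root r₀ := by rw [hIJ m, hJm, one_smul]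
    obtain ⟨i, hi⟩ := Int.eq_ofNat_of_zero_le (h.bot hroot)
    have hiq : i ≤ q := by exact_mod_cast hi ▸ h.top hroot
    exact Finset.mem_image.mpr ⟨i, Finset.mem_range.mpr (by omega),
      hE.1 (D.P.root.injective (by rw [hkE i hiq, hroot, hr i hiq, hi]))⟩
  obtain ⟨M₁, hM₁, hM₁lt, hM₁1, hM₁C⟩ :=
    exists_op_root (B := A) (b := b) hind hE hIJ (one_mul (1 : ℤ)) (one_smul ℤ _).symm 1
  let c : ℕ → ℕ → A := fun i j => M₁ (k j) (k i)
  have hcoef : IsCoef D b a r q c := fun i j hij hj p' d C m hd hC hm => by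
    have := hM₁C (k j) (k i) p' d C (j - i) m (hkJ j hj) (hkJ i (by omega))
      ((hkE i (by omega)).symm ▸ hd) ((hkE i (by omega)).symm ▸ hC) (hm.trans (hkE j hj).symm)
      (by rw [hkI j hj, hkI i (by omega)]; omega) (by omega)
    simpa [c] using this.symm
  refine ⟨c, hcoef, ?_⟩
  -- the entries of the matrices of the root group
  let Ent : ∀ (B : Type u) [CommRing B] [Algebra A B], B → ℕ → ℕ → B := fun B _ _ s j i =>
    if i = j then 1 else if i < j then algebraMap A B (c i j) * s ^ (j - i) else 0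
  have hop : ∀ (B : Type u) [CommRing B] [Algebra A B] (s : B), ∃ M : Fin p → Fin p → B,
      Op E J (ua D a s : tb b B ⟶ G) M ∧ ∀ i j, i ≤ q → j ≤ q → M (k j) (k i) = Ent B s j i := by
    intro B _ _ s
    obtain ⟨M, hM, hMlt, hM1, hMC⟩ :=
      exists_op_root (B := B) (b := b) hind hE hIJ (one_mul (1 : ℤ)) (one_smul ℤ _).symm s
    refine ⟨M, hM, fun i j hi hj => ?_⟩
    simp only [Ent]
    split_ifs with e1 e2
    · subst e1; exact hM1 _ (hkJ i hi)
    · obtain ⟨p', d, hd⟩ := exists_enumerates (commSet D a (E (k i)))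
      obtain ⟨C, P, Q, -, hC⟩ := exists_comm (hind.of_root (i := 1) (j := 0) (i' := I (k i)) (j' := J (k i))
        (by simp) (hIJ _) (by rw [hkJ i hi]; norm_num)) hd b
      have hC1 : (word D d C : tb b A ⟶ G) =
          ua D a 1 * ua D (E (k i)) 1 * (ua D a 1)⁻¹ * (ua D (E (k i)) 1)⁻¹ := by simpa using hC A 1 1
      obtain ⟨m, hm⟩ : E (k j) ∈ Set.range d := hd.2.symm ▸ ⟨((j - i : ℕ) : ℤ), 1, ⟨by omega, one_pos⟩, by
        rw [hIJ, hIJ, hkI i hi, hkJ i hi, hkI j hj, hkJ j hj, Nat.cast_sub e2.le]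
        module⟩
      rw [hMC (k j) (k i) p' d C (j - i) m (hkJ j hj) (hkJ i hi) hd hC1 hm
        (by rw [hkI j hj, hkI i hi]; omega) (by omega)]
      rw [hcoef i j e2 hj p' d C m (by rw [← hkE i hi]; exact hd) (by rw [← hkE i hi]; exact hC1)
        (hm.trans (hkE j hj))]
    · exact hMlt _ _ (hkJ j hj) (by rw [hkI j hj, hkI i hi]; omega)
  obtain ⟨F, hF, hFlt, hF1, -⟩ := exists_op_root (B := A) (b := b) hind hE hIJ
    (by norm_num : (-1 : ℤ) * -1 = 1) hna ((W.sg a a : ℤ) : A)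
  obtain ⟨N, hN, hNe⟩ := exists_op_wEl (B := A) (b := b) W h hE hIJ
  have hNk : ∀ i j, i ≤ q → j ≤ q → N (k j) (k i) = if i + j = q then (W.sg a (r i) : A) else 0 := by
    intro i j hi hj
    have hs : D.P.root (D.P.reflectionPerm a (E (k i))) = ((q : ℤ) - i) • D.P.root a + (1 : ℤ) • D.P.root r₀ := by
      rw [h.reflect (k := (i : ℤ)) (j := 1) (by rw [hkE i hi, hr i hi, one_smul]), one_mul]
    have hiff : E (k j) = D.P.reflectionPerm a (E (k i)) ↔ i + j = q := by
      rw [← D.P.root.injective.eq_iff, hs, hkE j hj, hr j hj]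
      constructor
      · intro e
        have := (hind.eq (i := (j : ℤ)) (j := 1) (i' := (q : ℤ) - i) (j' := 1) (by rw [← e, one_smul])).1
        omega
      · intro e
        rw [one_smul, show ((q : ℤ) - i) = (j : ℤ) by omega]
    split_ifs with e
    · rw [(hNe _ _ (hkJ j hj)).1 (hiff.mpr e), hkE i hi]
    · exact (hNe _ _ (hkJ j hj)).2 (mt hiff.mp e)
  have hFE : ∀ i j, i < j → j ≤ q → F (k j) (k i) = 0 := fun i j hij hj =>
    hFlt _ _ (hkJ j hj) (by rw [hkI j hj, hkI i (by omega)]; omega)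
  -- products
  have hmul : ∀ {B : Type u} [CommRing B] [Algebra A B] {g g' : tb b B ⟶ G} {M M' : Fin p → Fin p → B},
      Op E J g M → Op E J g' M' → ∀ (i j : ℕ), i ≤ q → j ≤ q →
      (∑ m, M (k j) m * M' m (k i)) = ∑ l ∈ Finset.range (q + 1), M (k j) (k l) * M' (k l) (k i) :=
    fun {B} _ _ {g g' M M'} hM _ i j hi hj => hsum B _ fun m hm => by rw [hM.1 _ m (hkJ j hj) hm, zero_mul]
  have hadd : ∀ (B : Type u) [CommRing B] [Algebra A B] (s t : B) (i j : ℕ), i ≤ q → j ≤ q →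
      Ent B (s + t) j i = ∑ l ∈ Finset.range (q + 1), Ent B s j l * Ent B t l i := by
    intro B _ _ s t i j hi hj
    obtain ⟨M, hM, hMk⟩ := hop B s
    obtain ⟨M', hM', hMk'⟩ := hop B t
    obtain ⟨M'', hM'', hMk''⟩ := hop B (s + t)
    rw [← hMk'' i j hi hj, op_unique hΨ hE hM'' (hM.mul hM') (ua_add D a s t) (k i) (hkJ j hj),
      hmul hM hM' i j hi hj]
    exact Finset.sum_congr rfl fun l hl => by
      rw [hMk l j (Nat.lt_succ_iff.mp (Finset.mem_range.mp hl)) hj,
        hMk' i l hi (Nat.lt_succ_iff.mp (Finset.mem_range.mp hl))]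
  obtain ⟨M, hM, hMk⟩ := hop A 1
  obtain ⟨M', hM', hMk'⟩ := hop A (-1)
  have hW1 : (wEl D W.sg a * ua D a 1 : tb b A ⟶ G) =
      ua D (D.P.reflectionPerm a a) ((W.sg a a : ℤ) : A) * wEl D W.sg a := by
    rw [← mul_inv_eq_iff_eq_mul, W.conj, _root_.mul_one]
  have hW2 : (ua D (D.P.reflectionPerm a a) ((W.sg a a : ℤ) : A) * ua D a 1 : tb b A ⟶ G) =
      ua D a (-1) * wEl D W.sg a := by
    rw [wEl, ← _root_.mul_assoc, ← _root_.mul_assoc, ← ua_add, neg_add_cancel, ua_zero, _root_.one_mul]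
  have hNE : ∀ i j, i ≤ q → j ≤ q → (∑ l ∈ Finset.range (q + 1), N (k j) (k l) * M (k l) (k i)) =
      ∑ l ∈ Finset.range (q + 1), F (k j) (k l) * N (k l) (k i) := fun i j hi hj => by
    rw [← hmul hN hM i j hi hj, ← hmul hF hN i j hi hj]
    exact op_unique hΨ hE (hN.mul hM) (hF.mul hN) hW1 (k i) (hkJ j hj)
  have hFM : ∀ i j, i ≤ q → j ≤ q → (∑ l ∈ Finset.range (q + 1), F (k j) (k l) * M (k l) (k i)) =
      ∑ l ∈ Finset.range (q + 1), M' (k j) (k l) * N (k l) (k i) := fun i j hi hj => by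
    rw [← hmul hF hM i j hi hj, ← hmul hM' hN i j hi hj]
    exact op_unique hΨ hE (hF.mul hM) (hM'.mul hN) hW2 (k i) (hkJ j hj)
  have htop : 0 < q → c 0 q = W.sg a (r 0) := fun hq => by
    have e := hFM 0 q (Nat.zero_le _) le_rfl
    rw [Finset.sum_eq_single q, Finset.sum_eq_single q] at e
    · rw [hF1 _ (hkJ q le_rfl), hMk 0 q (Nat.zero_le _) le_rfl, hMk' q q le_rfl le_rfl,
        hNk 0 q (Nat.zero_le _) le_rfl] at e
      simpa [Ent, hq.ne, hq] using e
    · intro l hl hne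
      have hlq := Finset.mem_range.mp hl
      rw [hNk 0 l (Nat.zero_le _) (by omega), if_neg (by omega), mul_zero]
    · simp
    · intro l hl hne
      have hlq := Finset.mem_range.mp hl
      rw [hFE l q (by omega) le_rfl, zero_mul]
    · simp
  refine ⟨htop, fun hq => ?_, ?_⟩
  · have e := hadd A 1 1 0 2 (Nat.zero_le _) hq
    rw [← Finset.sum_subset (Finset.range_subset_range.mpr (by omega : 3 ≤ q + 1)) (fun l hl hl' => by
      simp only [Finset.mem_range] at hl hl'
      simp [Ent, show ¬ l = 2 by omega, show ¬ l < 2 by omega])] at e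
    simp [Ent, Finset.sum_range_succ] at e
    linear_combination e
  rintro rfl
  have hc03 := htop (by norm_num)
  have e20 := hFM 0 2 (by norm_num) (by norm_num)
  have e32 := hFM 2 3 (by norm_num) (by norm_num)
  have f23 := hNE 0 2 (by norm_num) (by norm_num)
  simp (disch := omega) [Finset.sum_range_succ, hMk, hMk', hNk, hFE, hF1 (k 2) (hkJ 2 (by norm_num)), hF1 (k 3) (hkJ 3 (by norm_num)), Ent] at e20 e32 f23
  refine ⟨?_, ?_, ?_⟩
  · linear_combination e20 - F (k 2) (k 3) * hc03 + f23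
  · have e := congrArg TrivSqZeroExt.snd
      (hadd (DualNumber A) 1 DualNumber.eps 0 3 (by norm_num) (by norm_num))
    simp [Ent, Finset.sum_range_succ, pow_succ, TrivSqZeroExt.algebraMap_eq_inl] at e
    linear_combination e
  · linear_combination e32

/-- In a string with short direction the first structure constant is a sign. -/
theorem IsCoef.zero_one (W : Signs D) {a r₀ : D.idx} {q : ℕ} (h : IsString D.P a r₀ q) (hq : 0 < q)
    (hpa : D.P.pairing a r₀ = -1) {r : ℕ → D.idx}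
    (hr : ∀ i ≤ q, D.P.root (r i) = (i : ℤ) • D.P.root a + D.P.root r₀) {c : ℕ → ℕ → A}
    (hc : IsCoef D b a r q c) : c 0 1 = -(W.sg r₀ a : A) := by
  have h0 : r 0 = r₀ := D.P.root.injective (by simpa using hr 0 (Nat.zero_le q))
  let r' : ℕ → D.idx := fun i => if i = 0 then a else r 1
  have hr' : ∀ i ≤ 1, D.P.root (r' i) = (i : ℤ) • D.P.root r₀ + D.P.root a := fun i hi => by
    interval_cases i <;> simp [r', hr 1 hq, add_comm]
  obtain ⟨c', hc', htop, -⟩ := exists_coef W (h.flip hpa) r' hr' b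
  obtain ⟨p, d, hd⟩ := exists_enumerates (commSet D a r₀)
  obtain ⟨p', d', hd'⟩ := exists_enumerates (commSet D r₀ a)
  obtain ⟨C, P, Q, -, hC⟩ := exists_comm h.ind hd b
  obtain ⟨C', P', Q', -, hC'⟩ := exists_comm h.ind.symm hd' b
  have hC1 : (word D d C : tb b A ⟶ G) = ua D a 1 * ua D r₀ 1 * (ua D a 1)⁻¹ * (ua D r₀ 1)⁻¹ := by
    simpa using hC A 1 1
  have hC1' : (word D d' C' : tb b A ⟶ G) = ua D r₀ 1 * ua D a 1 * (ua D r₀ 1)⁻¹ * (ua D a 1)⁻¹ := by
    simpa using hC' A 1 1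
  have hroot : D.P.root (r 1) = (1 : ℤ) • D.P.root a + (1 : ℤ) • D.P.root r₀ := by
    rw [hr 1 hq, one_smul, one_smul, Nat.cast_one, one_smul]
  obtain ⟨k, hk⟩ : r 1 ∈ Set.range d := hd.2.symm ▸ ⟨1, 1, ⟨one_pos, one_pos⟩, hroot⟩
  obtain ⟨k', hk'⟩ : r 1 ∈ Set.range d' := hd'.2.symm ▸ ⟨1, 1, ⟨one_pos, one_pos⟩, hroot.trans (add_comm _ _)⟩
  have e := comm_coord_swap h.ind hd hd' hC1 hC1' (hk'.trans hk.symm) (i := 1)
    (by rw [hk, hroot, one_smul (M := ℤ) (D.P.root r₀)])
  rw [hc' 0 1 one_pos le_rfl p' d' C' k' (by simpa [r'] using hd') (by simpa [r'] using hC1') (by simpa [r'] using hk'),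
    htop one_pos, hc 0 1 one_pos hq p d C k (by rw [h0]; exact hd) (by rw [h0]; exact hC1) hk] at e
  simp [r'] at e
  rw [e, neg_neg]

end Groth.Agent.Red23Lib

end
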