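import Groth.Agent.RedCell22.Pairs
import Groth.Agent.RootData.Weyl

/-!
# The roots on the positive levels of a string
-/

set_option autoImplicit false
set_option linter.unusedSectionVars false

noncomputable section

namespace Groth.Agent.Red23Lib

open Groth.Agent.RedCell22 Groth.Agent.RootData RootPairing

variable {idx M N : Type} [Fintype idx] [AddCommGroup M] [AddCommGroup N] [Module.Free ℤ M]
  {P : RootPairing idx ℤ M N}

theorem pairing_pair {r a c g : idx} {i j : ℤ} (h : P.root r = i • P.root a + j • P.root c) :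
    P.pairing r g = i * P.pairing a g + j * P.pairing c g := by
  rw [← P.root_coroot_eq_pairing r g, h]
  simp [P.root_coroot_eq_pairing]

theorem pairing_double {r X : idx} (h : P.root X = (2 : ℤ) • P.root r) (y : idx) :
    P.pairing y r = 2 * P.pairing y X := by
  have : IsAddTorsionFree M := .of_isTorsionFree ℤ M
  have := torsionFreeN P
  rw [← P.root_coroot_eq_pairing y r, ← smul_coroot_eq_of_root_eq_smul r X 2 h, map_smul, smul_eq_mul,
    P.root_coroot_eq_pairing]

/-- The root `r₀` is the bottom of an `a`-string of length `q`. -/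
structure IsString (P : RootPairing idx ℤ M N) (a r₀ : idx) (q : ℕ) : Prop where
  ind : Indep P a r₀
  sub_notMem : P.root r₀ - P.root a ∉ Set.range P.root
  pairing_bot : P.pairing r₀ a = -(q : ℤ)

variable {a r₀ : idx} {q : ℕ}

namespace IsString

theorem bot (h : IsString P a r₀ q) {r : idx} {i : ℤ} (hr : P.root r = i • P.root a + P.root r₀) : 0 ≤ i := by
  suffices H : ∀ (n : ℕ) (r : idx), P.root r ≠ (-(n + 1 : ℕ) : ℤ) • P.root a + P.root r₀ by
    by_contra hi
    exact H (-i - 1).toNat r (by rw [hr]; congr 2; omega)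
  intro n
  induction n with
  | zero =>
    intro r hr
    exact h.sub_notMem ⟨r, by rw [hr]; simp; abel⟩
  | succ n ih =>
    intro r hr
    have hr' : P.root r = (-(n + 1 + 1 : ℕ) : ℤ) • P.root a + (1 : ℤ) • P.root r₀ := by rw [hr, one_smul]
    have hp : P.pairing r a < 0 := by
      rw [pairing_pair hr', P.pairing_same, h.pairing_bot]
      omega
    have hne : P.root r ≠ -P.root a := fun e => by
      have := (h.ind.eq (i' := -1) (j' := 0) (hr'.symm.trans (by rw [e, neg_one_smul, zero_smul, add_zero]))).2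
      omega
    obtain ⟨s, hs⟩ := add_root_mem hp hne
    exact ih s (by rw [hs, hr]; push_cast; module)

theorem reflect (h : IsString P a r₀ q) {r : idx} {k j : ℤ} (hr : P.root r = k • P.root a + j • P.root r₀) :
    P.root (P.reflectionPerm a r) = (j * q - k) • P.root a + j • P.root r₀ := by
  rw [P.root_reflectionPerm, P.reflection_apply_root, pairing_pair hr, P.pairing_same, h.pairing_bot, hr]
  module

theorem top (h : IsString P a r₀ q) {r : idx} {i : ℤ} (hr : P.root r = i • P.root a + P.root r₀) : i ≤ q := by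
  have e := h.reflect (r := r) (k := i) (j := 1) (by rw [hr, one_smul])
  rw [one_smul, one_mul] at e
  linarith [h.bot e]

theorem le_three (h : IsString P a r₀ q) : q ≤ 3 := by
  have := h.ind.pairing_bound.2.2.2.1
  rw [h.pairing_bot] at this
  omega

theorem mem (h : IsString P a r₀ q) (i : ℕ) (hi : i ≤ q) :
    ∃ r : idx, P.root r = (i : ℤ) • P.root a + P.root r₀ := by
  have h0 : P.root r₀ = (0 : ℤ) • P.root a + (1 : ℤ) • P.root r₀ := by simp
  rcases Nat.eq_zero_or_pos q with hq | hq
  · exact ⟨r₀, by rw [show i = 0 by omega]; simp⟩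
  have hne : P.root r₀ ≠ -P.root a := fun e => by
    have := (h.ind 1 1 (by rw [e, smul_neg, add_neg_cancel])).1
    omega
  obtain ⟨r₁, hr₁⟩ := add_root_mem (a := r₀) (b := a) (by rw [h.pairing_bot]; omega) hne
  have h1 : P.root r₁ = (1 : ℤ) • P.root a + (1 : ℤ) • P.root r₀ := by rw [hr₁, one_smul, one_smul, add_comm]
  have := h.le_three
  rcases (show i = 0 ∨ i = 1 ∨ i = q ∨ i + 1 = q by omega) with e | e | e | e
  · exact ⟨r₀, by simp [e]⟩
  · exact ⟨r₁, by rw [h1, e]; simp⟩
  · exact ⟨_, by rw [h.reflect h0, e]; simp⟩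
  · exact ⟨_, by rw [h.reflect h1, ← e]; simp⟩

theorem pairing_bot_top (h : IsString P a r₀ q) (hq : 0 < q) :
    P.pairing a r₀ < 0 ∧ -3 ≤ P.pairing a r₀ ∧ (q : ℤ) * -P.pairing a r₀ ≤ 3 := by
  obtain ⟨h1, h2, h3, -, -⟩ := h.ind.pairing_bound
  rw [h.pairing_bot] at h1 h2 h3
  have hne : P.pairing a r₀ ≠ 0 := fun e => by
    have := h3.mpr e
    omega
  have hq' : (1 : ℤ) ≤ q := by exact_mod_cast hq
  have hneg : P.pairing a r₀ < 0 := by
    by_contra hcon
    have : (0 : ℤ) < P.pairing a r₀ := lt_of_le_of_ne (not_lt.1 hcon) (Ne.symm hne)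
    nlinarith
  refine ⟨hneg, ?_, ?_⟩ <;> nlinarith

theorem flip (h : IsString P a r₀ q) (hpa : P.pairing a r₀ = -1) : IsString P r₀ a 1 where
  ind := h.ind.symm
  sub_notMem := fun ⟨r, hr⟩ => h.sub_notMem ⟨P.reflectionPerm r r, by rw [root_neg, hr, neg_sub]⟩
  pairing_bot := by simp [hpa]

/-- The roots of positive level. -/
theorem classify (h : IsString P a r₀ q) (hpa : P.pairing a r₀ = -1) {r : idx} {k j : ℤ} (hj : 0 < j)
    (hr : P.root r = k • P.root a + j • P.root r₀) :
    (j = 1 ∧ 0 ≤ k ∧ k ≤ q) ∨
      (q = 2 ∧ j = 2 ∧ k = 2 ∧ (2 : ℤ) • P.root a ∈ Set.range P.root) ∨ (q = 3 ∧ j = 2 ∧ k = 3) := by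
  have : IsAddTorsionFree M := .of_isTorsionFree ℤ M
  have hq0 : 0 < q := Nat.pos_of_ne_zero fun e => by
    have := (h.ind.pairing_bound.2.2.1).mp (by rw [h.pairing_bot, e]; simp)
    omega
  suffices H : ∀ (n : ℕ) (r : idx) (k j : ℤ), j.toNat = n → 0 < j → P.root r = k • P.root a + j • P.root r₀ →
      (j = 1 ∧ 0 ≤ k ∧ k ≤ q) ∨
        (q = 2 ∧ j = 2 ∧ k = 2 ∧ (2 : ℤ) • P.root a ∈ Set.range P.root) ∨ (q = 3 ∧ j = 2 ∧ k = 3) from
    H _ r k j rfl hj hr
  clear hj hr r k j
  intro n
  induction n using Nat.strong_induction_on with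
  | _ n ih =>
    intro r k j hn hj hr
    by_cases hj1 : j = 1
    · subst hj1
      rw [one_smul] at hr
      exact Or.inl ⟨rfl, h.bot hr, h.top hr⟩
    -- one may assume that `r` lies in the lower half of its string
    wlog hk : 2 * k ≤ j * q generalizing r k with H
    · rcases H _ _ (h.reflect hr) (by linarith) with ⟨e, -, -⟩ | ⟨e1, e2, e3, e4⟩ | ⟨e1, e2, e3⟩
      · exact absurd e hj1
      · exact Or.inr (Or.inl ⟨e1, e2, by rw [e1, e2] at e3; push_cast at e3; omega, e4⟩)
      · exact Or.inr (Or.inr ⟨e1, e2, by rw [e1, e2] at e3; push_cast at e3; omega⟩)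
    have hp : P.pairing r r₀ = 2 * j - k := by rw [pairing_pair hr, hpa, P.pairing_same]; ring
    have hne : r ≠ r₀ := fun e => hj1
      (h.ind.eq (i := k) (j := j) (i' := 0) (j' := 1) (by rw [← hr, e]; simp)).2
    have down : 0 < 2 * j - k → ∃ s, P.root s = k • P.root a + (j - 1) • P.root r₀ := fun hpos => by
      obtain ⟨s, hs⟩ := sub_root_mem (by rw [hp]; exact hpos) hne
      exact ⟨s, by rw [hs, hr, sub_smul, one_smul]; abel⟩
    have hs0 : P.root (P.reflectionPerm r₀ r) = k • P.root a + (k - j) • P.root r₀ := by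
      rw [P.root_reflectionPerm, P.reflection_apply_root, hp, hr]
      module
    rcases lt_trichotomy k 0 with hk0 | hk0 | hk0
    · exfalso
      obtain ⟨s, hs⟩ := down (by omega)
      rcases ih (j - 1).toNat (by omega) s k (j - 1) rfl (by omega) hs with e | e | e <;> omega
    · exfalso
      subst hk0
      obtain ⟨s, hs⟩ := down (by omega)
      rcases ih (j - 1).toNat (by omega) s 0 (j - 1) rfl (by omega) hs with e | e | e
      · have h2 : P.root r = (2 : ℤ) • P.root r₀ := by rw [hr, show j = 2 by omega]; simp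
        have := pairing_double h2 a
        omega
      all_goals omega
    rcases lt_trichotomy k j with hkj | hkj | hkj
    · exfalso
      have hneg : P.root (P.reflectionPerm (P.reflectionPerm r₀ r) (P.reflectionPerm r₀ r)) =
          (-k) • P.root a + (j - k) • P.root r₀ := by
        rw [root_neg, hs0]
        module
      rcases ih (j - k).toNat (by omega) _ (-k) (j - k) rfl (by omega) hneg with e | e | e <;> omega
    · subst hkj
      obtain ⟨c, hc⟩ := h.mem 1 hq0
      have hc' : P.root c = (1 : ℤ) • P.root a + (1 : ℤ) • P.root r₀ := by rw [hc]; simp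
      have hrc : k • P.root c = (1 : ℤ) • P.root r := by rw [hc', hr, one_smul, one_smul, smul_add, one_smul]
      have hj2 : P.root r = (2 : ℤ) • P.root c := by
        rcases proportional_cases (P := P) one_ne_zero hrc with E | E | E | E | E | E
        · rw [E, one_smul] at hrc
          exact absurd (smul_left_injective ℤ (P.ne_zero c) (hrc.trans (one_smul ℤ _).symm)) hj1
        · rw [E, one_smul] at hrc
          exact absurd (smul_left_injective ℤ (P.ne_zero c) (hrc.trans (neg_one_smul ℤ _).symm)) (by omega)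
        · exact E
        · rw [E, one_smul] at hrc
          exact absurd (smul_left_injective ℤ (P.ne_zero c) hrc) (by omega)
        · rw [E, smul_smul, one_smul] at hrc
          have := smul_left_injective ℤ (P.ne_zero r) (hrc.trans (one_smul ℤ _).symm)
          omega
        · rw [E, smul_smul, one_smul] at hrc
          have := smul_left_injective ℤ (P.ne_zero r) (hrc.trans (one_smul ℤ _).symm)
          omega
      have hk2 : k = 2 := smul_left_injective ℤ (P.ne_zero c) (hrc.trans ((one_smul ℤ _).trans hj2))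
      subst hk2
      have h1 : P.pairing c r₀ = 1 := by rw [pairing_pair hc', hpa, P.pairing_same]; ring
      have h2 : P.pairing c a = 2 - q := by rw [pairing_pair hc', h.pairing_bot, P.pairing_same]; ring
      have h3 := pairing_pair (g := c) hc'
      rw [P.pairing_same, pairing_double hj2 r₀, pairing_double hj2 a] at h3
      have hind0 : Indep P r₀ c := h.ind.of_root (i := 0) (j := 1) (i' := 1) (j' := 1) (by simp) hc' (by norm_num)
      have hinda : Indep P a c := h.ind.of_root (i := 1) (j := 0) (i' := 1) (j' := 1) (by simp) hc' (by norm_num)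
      obtain ⟨b1, b2, b3, b4, b5⟩ := hind0.pairing_bound
      rw [h1, pairing_double hj2 r₀] at b1 b2 b3
      have hne0 : P.pairing r₀ r ≠ 0 := fun e => by
        have := b3.mpr (by rw [e, mul_zero])
        omega
      have ha0 : P.pairing a r = 0 := by omega
      have hq2 := (hinda.pairing_bound).2.2.1.mpr (by rw [pairing_double hj2 a, ha0, mul_zero])
      rw [h2] at hq2
      refine Or.inr (Or.inl ⟨by omega, rfl, rfl, P.reflectionPerm r₀ r, ?_⟩)
      rw [hs0]
      simp
    · have hq3 := h.le_three
      have hkj2 : k < 2 * j := by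
        have : j * (q : ℤ) ≤ j * 3 := by exact_mod_cast mul_le_mul_of_nonneg_left (by exact_mod_cast hq3) hj.le
        linarith
      rcases ih (k - j).toNat (by omega) _ k (k - j) rfl (by omega) hs0 with ⟨e1, -, e3⟩ | ⟨e1, e2, e3, -⟩ | ⟨e1, e2, e3⟩
      · refine Or.inr (Or.inr ?_)
        interval_cases q <;> push_cast at e3 hk <;> omega
      all_goals omega

end IsString

end Groth.Agent.Red23Lib

end
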